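import Cfsg.Agent.Lib.D4Iso.CondDefs
import Cfsg.Agent.Lib.D4Iso.DataA

/-! Kernel checks for the A points. -/

set_option autoImplicit false
set_option maxRecDepth 100000
set_option Elab.async false

namespace Cfsg.Agent.D4Iso

theorem orbA_ok0 : orbA.okRange gensLit 0 128 = true := by decide +kernel

theorem orbA_fixd0 : fixedIn orbA eltA fixA 0 128 = true := by decide +kernel

theorem orbA_ok1 : orbA.okRange gensLit 128 256 = true := by decide +kernel

theorem orbA_fixd1 : fixedIn orbA eltA fixA 128 256 = true := by decide +kernel

theorem orbA_ok2 : orbA.okRange gensLit 256 384 = true := by decide +kernel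

theorem orbA_fixd2 : fixedIn orbA eltA fixA 256 384 = true := by decide +kernel

theorem orbA_ok3 : orbA.okRange gensLit 384 512 = true := by decide +kernel

theorem orbA_fixd3 : fixedIn orbA eltA fixA 384 512 = true := by decide +kernel

theorem orbA_ok4 : orbA.okRange gensLit 512 640 = true := by decide +kernel

theorem orbA_fixd4 : fixedIn orbA eltA fixA 512 640 = true := by decide +kernel

theorem orbA_ok5 : orbA.okRange gensLit 640 768 = true := by decide +kernel

theorem orbA_fixd5 : fixedIn orbA eltA fixA 640 768 = true := by decide +kernel

theorem orbA_ok6 : orbA.okRange gensLit 768 896 = true := by decide +kernel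

theorem orbA_fixd6 : fixedIn orbA eltA fixA 768 896 = true := by decide +kernel

theorem orbA_ok7 : orbA.okRange gensLit 896 1024 = true := by decide +kernel

theorem orbA_fixd7 : fixedIn orbA eltA fixA 896 1024 = true := by decide +kernel

theorem orbA_ok8 : orbA.okRange gensLit 1024 1152 = true := by decide +kernel

theorem orbA_fixd8 : fixedIn orbA eltA fixA 1024 1152 = true := by decide +kernel

theorem orbA_ok9 : orbA.okRange gensLit 1152 1280 = true := by decide +kernel

theorem orbA_fixd9 : fixedIn orbA eltA fixA 1152 1280 = true := by decide +kernel

end Cfsg.Agent.D4Iso
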