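import Cfsg.Agent.Lib.D4Iso.CondDefs
import Cfsg.Agent.Lib.D4Iso.DataA

/-! Kernel checks for the A points. -/

set_option autoImplicit false
set_option maxRecDepth 100000
set_option Elab.async false

namespace Cfsg.Agent.D4Iso

theorem orbA_ok10 : orbA.okRange gensLit 1280 1408 = true := by decide +kernel

theorem orbA_fixd10 : fixedIn orbA eltA fixA 1280 1408 = true := by decide +kernel

theorem orbA_ok11 : orbA.okRange gensLit 1408 1536 = true := by decide +kernel

theorem orbA_fixd11 : fixedIn orbA eltA fixA 1408 1536 = true := by decide +kernel

theorem orbA_ok12 : orbA.okRange gensLit 1536 1664 = true := by decide +kernel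

theorem orbA_fixd12 : fixedIn orbA eltA fixA 1536 1664 = true := by decide +kernel

theorem orbA_ok13 : orbA.okRange gensLit 1664 1792 = true := by decide +kernel

theorem orbA_fixd13 : fixedIn orbA eltA fixA 1664 1792 = true := by decide +kernel

theorem orbA_ok14 : orbA.okRange gensLit 1792 1920 = true := by decide +kernel

theorem orbA_fixd14 : fixedIn orbA eltA fixA 1792 1920 = true := by decide +kernel

theorem orbA_ok15 : orbA.okRange gensLit 1920 2048 = true := by decide +kernel

theorem orbA_fixd15 : fixedIn orbA eltA fixA 1920 2048 = true := by decide +kernel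

theorem orbA_ok16 : orbA.okRange gensLit 2048 2176 = true := by decide +kernel

theorem orbA_fixd16 : fixedIn orbA eltA fixA 2048 2176 = true := by decide +kernel

theorem orbA_ok17 : orbA.okRange gensLit 2176 2304 = true := by decide +kernel

theorem orbA_fixd17 : fixedIn orbA eltA fixA 2176 2304 = true := by decide +kernel

theorem orbA_ok18 : orbA.okRange gensLit 2304 2432 = true := by decide +kernel

theorem orbA_fixd18 : fixedIn orbA eltA fixA 2304 2432 = true := by decide +kernel

theorem orbA_ok19 : orbA.okRange gensLit 2432 2457 = true := by decide +kernel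

theorem orbA_fixd19 : fixedIn orbA eltA fixA 2432 2457 = true := by decide +kernel

end Cfsg.Agent.D4Iso
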