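import Cfsg.Agent.Lib.D4Iso.Model

/-!
# Matrices of the generators
-/

set_option autoImplicit false
set_option maxRecDepth 8000

namespace Cfsg.Agent.D4Iso

open Cfsg.Lie
open Cfsg.Agent.Chev

/-- The generator matrices: `x_{p}(1), x_p(α), x_p(α²)`, the opposite ones and the two middle ones. -/
def genMats : List (List ℕ) :=
  let o := fun (a b c t : ℕ) => mm (mm (rootM t (wI a) (uI a) (uI a ^^^ 1) (wI a ^^^ 1))
      (rootM (sqC t) (wI b) (uI b) (uI b ^^^ 1) (wI b ^^^ 1)))
    (rootM (sqC (sqC t)) (wI c) (uI c) (uI c ^^^ 1) (wI c ^^^ 1))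
  [o 18 13 12 1, o 18 13 12 2, o 18 13 12 4, o 5 10 11 1, o 5 10 11 2, o 5 10 11 4,
    rootM 1 (wI 14) (uI 14) (uI 14 ^^^ 1) (wI 14 ^^^ 1), rootM 1 (wI 9) (uI 9) (uI 9 ^^^ 1) (wI 9 ^^^ 1)]
where
  /-- squares of scalar codes -/
  sqC (t : ℕ) : ℕ := [0, 1, 4, 5, 6, 7, 2, 3].getD t 0
  /-- first frame label -/
  uI (r : ℕ) : ℕ := [1, 1, 1, 1, 1, 1, 3, 3, 3, 3, 5, 5, 4, 4, 2, 2, 2, 2, 0, 0, 0, 0, 0, 0].getD r 0
  /-- second frame label -/
  wI (r : ℕ) : ℕ := [3, 5, 6, 7, 4, 2, 5, 6, 7, 4, 6, 7, 6, 7, 5, 6, 7, 4, 3, 5, 6, 7, 4, 2].getD r 0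

/-- The matrix of a word in the generators. -/
def matW : List ℕ → List ℕ
  | [] => idM
  | a :: w => mm (genMats.getD a idM) (matW w)

variable {K : Type*} [Field K] [Fintype K] (F : F8 K)

/-- The decoded vector. -/
abbrev F8.d (c : ℕ) : V8 K := F.dec (fr K) c

/-- `A` is the matrix of `g`. -/
def Rep (g : V8 K → V8 K) (A : List ℕ) : Prop :=
  okM A = true ∧ ∀ c < 2 ^ 24, g (F.d c) = F.d (appR A c)

variable {F}

theorem d_inj {a b : ℕ} (ha : a < 2 ^ 24) (hb : b < 2 ^ 24) (h : F.d a = F.d b) : a = b := by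
  have hc := frame_indep (c := fun i => F.e (coord i a) - F.e (coord i b)) (by
    simp only [sub_smul, Finset.sum_sub_distrib]
    exact sub_eq_zero.2 h)
  refine Nat.eq_of_testBit_eq fun j => ?_
  rcases lt_or_ge j 24 with hj | hj
  · have he := F.e_inj (coord_lt _ _) (coord_lt _ _) (sub_eq_zero.1 (hc (j / 3) (by omega)))
    have := congrArg (fun x => Nat.testBit x (j % 3)) he
    simp only [coord, Nat.testBit_mod_two_pow, Nat.testBit_div_two_pow] at this
    have h3 : j % 3 + 3 * (j / 3) = j := Nat.mod_add_div j 3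
    simpa [Nat.mod_lt j (by norm_num : 3 > 0), h3] using this
  · rw [Nat.testBit_lt_two_pow (ha.trans_le (Nat.pow_le_pow_right (by norm_num) hj)),
      Nat.testBit_lt_two_pow (hb.trans_le (Nat.pow_le_pow_right (by norm_num) hj))]

theorem d_basis {i : ℕ} (hi : i < 8) : F.d (2 ^ (3 * i)) = fr K i := by
  simpa using F.dec_pow (fr K) hi (b := 0) (by norm_num)

theorem d_surj (x : V8 K) : ∃ c < 2 ^ 24, F.d c = x := by
  have : ∀ n ≤ 8, ∃ c < 2 ^ 24, F.d c = ∑ j ∈ Finset.range n, x (pos j) • fr K j := by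
    intro n
    induction n with
    | zero => exact fun _ => ⟨0, by norm_num, by simp [F8.d, F.dec_zero]⟩
    | succ n ih =>
      intro hn
      obtain ⟨c, hc, he⟩ := ih (by omega)
      obtain ⟨t, -, ht⟩ := F.e_surj (x (pos n))
      have h2 : 2 ^ (3 * n) < 2 ^ 24 := Nat.pow_lt_pow_right (by norm_num) (by omega)
      refine ⟨c ^^^ scal t (2 ^ (3 * n)), Nat.xor_lt_two_pow hc (F8.scal_lt h2), ?_⟩
      rw [Finset.sum_range_succ, ← he, ← ht, ← d_basis (F := F) (i := n) (by omega)]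
      exact (F.dec_xor _ _ _).trans (by rw [F.dec_scal _ h2])
  obtain ⟨c, hc, he⟩ := this 8 le_rfl
  exact ⟨c, hc, he.trans (frame_expand x).symm⟩

theorem rep_id : Rep F (fun x => x) idM := by
  refine ⟨by decide +kernel, fun c hc => congrArg F.d ?_⟩
  refine Nat.eq_of_testBit_eq fun j => ?_
  have key : ∀ (n k : ℕ) (c : ℕ), c < 2 ^ n →
      appR ((List.range n).map fun i => 2 ^ (k + i)) c = 2 ^ k * c := by
    intro n
    induction n with
    | zero => intro k c hc; simp at hc; simp [hc, appR]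
    | succ n ih =>
      intro k c hc
      rw [List.range_succ_eq_map, List.map_cons, List.map_map, appR]
      have e : ((fun i => 2 ^ (k + i)) ∘ Nat.succ) = fun i => 2 ^ (k + 1 + i) := by
        funext i; simp [Function.comp, Nat.add_comm, Nat.add_left_comm]
      rw [e, ih (k + 1) (c / 2) (by rw [pow_succ] at hc; omega)]
      rcases Nat.mod_two_eq_zero_or_one c with h | h
      · simp only [h, beq01, cond, Nat.zero_xor]
        conv_rhs => rw [← Nat.div_add_mod c 2, h, add_zero]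
        ring
      · simp only [h, beq11, cond, add_zero]
        have hx : (2 ^ k) ^^^ (2 ^ (k + 1) * (c / 2)) = 2 ^ k + 2 ^ (k + 1) * (c / 2) := by
          refine Nat.eq_of_testBit_eq fun i => ?_
          rw [Nat.testBit_xor, Nat.add_comm (2 ^ k), Nat.testBit_two_pow_mul_add _ (Nat.pow_lt_pow_right (by norm_num) (by omega)),
            Nat.testBit_two_pow_mul, Nat.testBit_two_pow]
          split_ifs with hi
          · simp [Nat.not_le.2 hi]
          · simp [Nat.le_of_not_lt hi, show k ≠ i by omega]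
        rw [hx]
        conv_rhs => rw [← Nat.div_add_mod c 2, h]
        ring
  have := key 24 0 c hc
  simp only [zero_add, pow_zero, one_mul] at this
  rw [show idM = (List.range 24).map fun i => 2 ^ i from rfl, this]

theorem Rep.comp {g h : V8 K → V8 K} {A B : List ℕ} (hA : Rep F g A) (hB : Rep F h B) :
    Rep F (g ∘ h) (mm A B) := by
  refine ⟨?_, fun c hc => ?_⟩
  · have hl := hA.1; have hl' := hB.1
    simp only [okM, Bool.and_eq_true, List.all_eq_true, Nat.blt_eq, Nat.beq_eq] at hl hl' ⊢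
    refine ⟨by simp [mm, hl'.1], fun m hm => ?_⟩
    obtain ⟨x, -, rfl⟩ := List.mem_map.1 hm
    exact appR_lt hl.2 x
  · rw [appR_mm, Function.comp, hB.2 c hc, hA.2 _ (appR_lt (okM_lt hB.1) c)]

theorem Rep.add {g h : V8 K → V8 K} {A B : List ℕ} (hA : Rep F g A) (hB : Rep F h B) :
    Rep F (fun x => g x + h x) (madd A B) := by
  have hl := hA.1; have hl' := hB.1
  simp only [okM, Bool.and_eq_true, List.all_eq_true, Nat.blt_eq, Nat.beq_eq] at hl hl'
  refine ⟨?_, fun c hc => ?_⟩
  · simp only [okM, Bool.and_eq_true, List.all_eq_true, Nat.blt_eq, Nat.beq_eq]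
    refine ⟨by simp [madd, hl.1, hl'.1], fun m hm => ?_⟩
    obtain ⟨i, hi, rfl⟩ := List.getElem_of_mem hm
    simp only [madd, List.getElem_zipWith]
    exact Nat.xor_lt_two_pow (hl.2 _ (List.getElem_mem _)) (hl'.2 _ (List.getElem_mem _))
  · show g _ + h _ = _
    rw [appR_madd _ _ _ (hl.1.trans hl'.1.symm), hA.2 c hc, hB.2 c hc]
    exact (F.dec_xor _ _ _).symm

theorem rep_zero : Rep F (fun _ => 0) zeroM := by
  refine ⟨by decide +kernel, fun c _ => ?_⟩
  have : ∀ n c, appR (List.replicate n 0) c = 0 := by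
    intro n
    induction n with
    | zero => simp [appR]
    | succ n ih => intro c; simp [List.replicate_succ, appR, ih]
  rw [show zeroM = List.replicate 24 0 from rfl, this]
  exact (F.dec_zero _).symm

theorem Rep.unique {g : V8 K → V8 K} {A B : List ℕ} (hA : Rep F g A) (hB : Rep F g B) : A = B := by
  have hl := hA.1; have hl' := hB.1
  simp only [okM, Bool.and_eq_true, List.all_eq_true, Nat.blt_eq, Nat.beq_eq] at hl hl'
  refine List.ext_getElem (hl.1.trans hl'.1.symm) fun j hj hj' => ?_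
  have hp : 2 ^ j < 2 ^ 24 := Nat.pow_lt_pow_right (by norm_num) (by omega)
  have := d_inj (F := F) (appR_lt hl.2 _) (appR_lt hl'.2 _) ((hA.2 _ hp).symm.trans (hB.2 _ hp))
  rw [appR_pow, appR_pow, List.getD_eq_getElem _ _ hj, List.getD_eq_getElem _ _ hj'] at this
  exact this

theorem Rep.ext {g h : V8 K → V8 K} {A : List ℕ} (hA : Rep F g A) (hB : Rep F h A) : g = h := by
  funext x
  obtain ⟨c, hc, rfl⟩ := d_surj (F := F) x
  rw [hA.2 c hc, hB.2 c hc]

variable (F)

theorem e_sqC : ∀ t < 8, F.e (genMats.sqC t) = F.e t ^ 2 := by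
  haveI := F.charTwo
  intro t ht
  have h4 : F.e 6 = (F.α ^ 2) ^ 2 := by
    rw [show (6 : ℕ) = 2 ^^^ 4 from rfl, F.e_xor, F.e_two, F.e_four, ← pow_mul,
      show F.α ^ (2 * 2) = F.α * F.α ^ 3 from by ring, F.rel]
    ring
  have key : ∀ c < 2 ^ 3, F.e (genMats.sqC c) = F.e c ^ 2 := by
    refine ext_add 3 _ _ (fun a b ha hb => ?_) (fun a b _ _ => by rw [F.e_xor, CharTwo.add_sq])
      (fun j hj => ?_)
    · have : ∀ a < 8, ∀ b < 8, genMats.sqC (a ^^^ b) = genMats.sqC a ^^^ genMats.sqC b := by decide +kernel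
      show F.e _ = F.e _ + F.e _
      rw [this a (by simpa using ha) b (by simpa using hb), F.e_xor]
    · interval_cases j
      · show F.e 1 = F.e 1 ^ 2
        simp
      · show F.e 4 = F.e 2 ^ 2
        rw [F.e_four, F.e_two]
      · show F.e 6 = F.e 4 ^ 2
        rw [h4, F.e_four]
  exact key t (by simpa using ht)

theorem rootM_rep {r t : ℕ} (hr : r < 24) :
    Rep F (fun x => (natX K r (F.e t)).1 x)
      (rootM t (genMats.wI r) (genMats.uI r) (genMats.uI r ^^^ 1) (genMats.wI r ^^^ 1)) := by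
  haveI := F.charTwo
  have hidx : ∀ r < 24, genMats.uI r = D4Data.nat.u r ∧ genMats.wI r = D4Data.nat.w r := by decide +kernel
  obtain ⟨hu, hw⟩ := hidx r hr
  rw [hu, hw]
  obtain ⟨hu8, hw8, hp, hq, -⟩ := root_shape r hr
  set u := D4Data.nat.u r
  set w := D4Data.nat.w r
  have hcol : ∀ j < 8, (2 ^ (3 * j) ^^^ (bif Nat.beq j (u ^^^ 1) then scal t (2 ^ (3 * w)) else 0) ^^^
      (bif Nat.beq j (w ^^^ 1) then scal t (2 ^ (3 * u)) else 0)) < 2 ^ 24 := by
    intro j hj
    have h2 : ∀ i < 8, 2 ^ (3 * i) < 2 ^ 24 := fun i hi => Nat.pow_lt_pow_right (by norm_num) (by omega)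
    refine Nat.xor_lt_two_pow (Nat.xor_lt_two_pow (h2 j hj) ?_) ?_
    · cases Nat.beq j (u ^^^ 1) <;> simp only [cond] <;> first | exact F8.scal_lt (h2 w hw8) | norm_num
    · cases Nat.beq j (w ^^^ 1) <;> simp only [cond] <;> first | exact F8.scal_lt (h2 u hu8) | norm_num
  have hal : ∀ x, appR alM x < 2 ^ 24 := fun x => appR_lt (by decide) x
  have hok : okM (rootM t w u (u ^^^ 1) (w ^^^ 1)) = true := by
    simp only [okM, Bool.and_eq_true, List.all_eq_true, Nat.blt_eq, Nat.beq_eq]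
    refine ⟨by simp [rootM, List.range_succ], fun m hm => ?_⟩
    simp only [rootM, List.mem_flatten, List.mem_map, List.mem_range] at hm
    obtain ⟨l, ⟨j, hj, rfl⟩, hm⟩ := hm
    simp only [List.mem_cons, List.not_mem_nil, or_false] at hm
    rcases hm with rfl | rfl | rfl
    exacts [hcol j hj, hal _, hal _]
  refine ⟨hok, fun c hc => ?_⟩
  refine ext_add 24 (fun c => (natX K r (F.e t)).1 (F.d c)) (fun c => F.d (appR (rootM t w u (u ^^^ 1) (w ^^^ 1)) c))
    (fun a b _ _ => by simp only [F8.d, F.dec_xor, map_add]) (fun a b _ _ => by simp only [F8.d, appR_xor, F.dec_xor])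
    (fun k hk => ?_) c hc
  obtain ⟨i, b, hb, rfl⟩ : ∃ i b, b < 3 ∧ k = 3 * i + b :=
    ⟨k / 3, k % 3, Nat.mod_lt _ (by norm_num), (Nat.div_add_mod k 3).symm⟩
  have hi : i < 8 := by omega
  set col := 2 ^ (3 * i) ^^^ (bif Nat.beq i (u ^^^ 1) then scal t (2 ^ (3 * w)) else 0) ^^^
      (bif Nat.beq i (w ^^^ 1) then scal t (2 ^ (3 * u)) else 0) with hcol'
  have hg : (rootM t w u (u ^^^ 1) (w ^^^ 1)).getD (3 * i + b) 0 = [col, appR alM col, appR alM (appR alM col)].getD b 0 := by
    rw [hcol']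
    interval_cases i <;> interval_cases b <;> rfl
  have hcd : F.d col = (natX K r (F.e t)).1 (fr K i) := by
    have hs : ∀ (p j : ℕ), j < 8 → F.d (bif Nat.beq i p then scal t (2 ^ (3 * j)) else 0) =
        if i = p then F.e t • fr K j else 0 := by
      intro p j hj
      by_cases h : i = p
      · have : Nat.beq i p = true := by subst h; exact Nat.beq_refl i
        rw [this, if_pos h, cond]
        exact (F.dec_scal _ (Nat.pow_lt_pow_right (by norm_num) (by omega))).trans (by rw [← d_basis (F := F) hj])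
      · have : Nat.beq i p = false := Bool.eq_false_iff.2 fun e => h (Nat.eq_of_beq_eq_true e)
        rw [this, if_neg h, cond]
        exact F.dec_zero _
    rw [natX_frame hr hi]
    simp only [hcol', F8.d, F.dec_xor]
    rw [show F.dec (fr K) (2 ^ (3 * i)) = fr K i from d_basis hi]
    exact congrArg₂ (· + ·) (congrArg (fr K i + ·) (hs _ _ hw8)) (hs _ _ hu8)
  show (natX K r (F.e t)).1 (F.d _) = F.d (appR _ _)
  rw [appR_pow, hg, F8.d, F.dec_pow (fr K) hi hb, map_smul, ← hcd]
  interval_cases b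
  · simp
  · simpa using (F.dec_alM (fr K) col (hcol i hi)).symm
  · show _ = F.dec _ (appR alM (appR alM col))
    rw [F.dec_alM _ _ (hal _), F.dec_alM _ _ (hcol i hi), smul_smul, pow_two]

end Cfsg.Agent.D4Iso
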