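import Cfsg.Agent.Lib.D4Iso.CondDefs
import Cfsg.Agent.Lib.D4Iso.Rep
import Cfsg.Agent.Lib.D4Iso.DataA

/-! Kernel checks for the A points. -/

set_option autoImplicit false
set_option maxRecDepth 100000
set_option Elab.async false

namespace Cfsg.Agent.D4Iso

theorem fixA_h0 : (matW fixAW0 == fixAH0) = true := by decide +kernel

theorem walkA0_0 : walk gensLit eltA fixAH0 baseA1 (leviA.map Prod.snd) condA transA_0 candA0_0 = true := by
  decide +kernel

theorem walkA0_1 : walk gensLit eltA fixAH0 baseA1 (leviA.map Prod.snd) condA transA_1 candA0_1 = true := by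
  decide +kernel

theorem walkA0_2 : walk gensLit eltA fixAH0 baseA1 (leviA.map Prod.snd) condA transA_2 candA0_2 = true := by
  decide +kernel

theorem walkA0_3 : walk gensLit eltA fixAH0 baseA1 (leviA.map Prod.snd) condA transA_3 candA0_3 = true := by
  decide +kernel

theorem walkA0_4 : walk gensLit eltA fixAH0 baseA1 (leviA.map Prod.snd) condA transA_4 candA0_4 = true := by
  decide +kernel

theorem walkA0_5 : walk gensLit eltA fixAH0 baseA1 (leviA.map Prod.snd) condA transA_5 candA0_5 = true := by
  decide +kernel

theorem walkA0_6 : walk gensLit eltA fixAH0 baseA1 (leviA.map Prod.snd) condA transA_6 candA0_6 = true := by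
  decide +kernel

theorem walkA0_7 : walk gensLit eltA fixAH0 baseA1 (leviA.map Prod.snd) condA transA_7 candA0_7 = true := by
  decide +kernel

theorem walkA0_8 : walk gensLit eltA fixAH0 baseA1 (leviA.map Prod.snd) condA transA_8 candA0_8 = true := by
  decide +kernel

theorem walkA0_9 : walk gensLit eltA fixAH0 baseA1 (leviA.map Prod.snd) condA transA_9 candA0_9 = true := by
  decide +kernel

theorem walkA0_10 : walk gensLit eltA fixAH0 baseA1 (leviA.map Prod.snd) condA transA_10 candA0_10 = true := by
  decide +kernel

theorem walkA0_11 : walk gensLit eltA fixAH0 baseA1 (leviA.map Prod.snd) condA transA_11 candA0_11 = true := by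
  decide +kernel

theorem walkA0_12 : walk gensLit eltA fixAH0 baseA1 (leviA.map Prod.snd) condA transA_12 candA0_12 = true := by
  decide +kernel

theorem walkA0_13 : walk gensLit eltA fixAH0 baseA1 (leviA.map Prod.snd) condA transA_13 candA0_13 = true := by
  decide +kernel

theorem walkA0_14 : walk gensLit eltA fixAH0 baseA1 (leviA.map Prod.snd) condA transA_14 candA0_14 = true := by
  decide +kernel

theorem walkA0_15 : walk gensLit eltA fixAH0 baseA1 (leviA.map Prod.snd) condA transA_15 candA0_15 = true := by
  decide +kernel

theorem fixA_h1 : (matW fixAW1 == fixAH1) = true := by decide +kernel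

theorem walkA1_0 : walk gensLit eltA fixAH1 baseA1 (leviA.map Prod.snd) condA transA_0 candA1_0 = true := by
  decide +kernel

theorem walkA1_1 : walk gensLit eltA fixAH1 baseA1 (leviA.map Prod.snd) condA transA_1 candA1_1 = true := by
  decide +kernel

theorem walkA1_2 : walk gensLit eltA fixAH1 baseA1 (leviA.map Prod.snd) condA transA_2 candA1_2 = true := by
  decide +kernel

theorem walkA1_3 : walk gensLit eltA fixAH1 baseA1 (leviA.map Prod.snd) condA transA_3 candA1_3 = true := by
  decide +kernel

theorem walkA1_4 : walk gensLit eltA fixAH1 baseA1 (leviA.map Prod.snd) condA transA_4 candA1_4 = true := by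
  decide +kernel

theorem walkA1_5 : walk gensLit eltA fixAH1 baseA1 (leviA.map Prod.snd) condA transA_5 candA1_5 = true := by
  decide +kernel

theorem walkA1_6 : walk gensLit eltA fixAH1 baseA1 (leviA.map Prod.snd) condA transA_6 candA1_6 = true := by
  decide +kernel

theorem walkA1_7 : walk gensLit eltA fixAH1 baseA1 (leviA.map Prod.snd) condA transA_7 candA1_7 = true := by
  decide +kernel

theorem walkA1_8 : walk gensLit eltA fixAH1 baseA1 (leviA.map Prod.snd) condA transA_8 candA1_8 = true := by
  decide +kernel

theorem walkA1_9 : walk gensLit eltA fixAH1 baseA1 (leviA.map Prod.snd) condA transA_9 candA1_9 = true := by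
  decide +kernel

theorem walkA1_10 : walk gensLit eltA fixAH1 baseA1 (leviA.map Prod.snd) condA transA_10 candA1_10 = true := by
  decide +kernel

theorem walkA1_11 : walk gensLit eltA fixAH1 baseA1 (leviA.map Prod.snd) condA transA_11 candA1_11 = true := by
  decide +kernel

theorem walkA1_12 : walk gensLit eltA fixAH1 baseA1 (leviA.map Prod.snd) condA transA_12 candA1_12 = true := by
  decide +kernel

theorem walkA1_13 : walk gensLit eltA fixAH1 baseA1 (leviA.map Prod.snd) condA transA_13 candA1_13 = true := by
  decide +kernel

theorem walkA1_14 : walk gensLit eltA fixAH1 baseA1 (leviA.map Prod.snd) condA transA_14 candA1_14 = true := by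
  decide +kernel

theorem walkA1_15 : walk gensLit eltA fixAH1 baseA1 (leviA.map Prod.snd) condA transA_15 candA1_15 = true := by
  decide +kernel

theorem fixA_h2 : (matW fixAW2 == fixAH2) = true := by decide +kernel

theorem walkA2_0 : walk gensLit eltA fixAH2 baseA1 (leviA.map Prod.snd) condA transA_0 candA2_0 = true := by
  decide +kernel

theorem walkA2_1 : walk gensLit eltA fixAH2 baseA1 (leviA.map Prod.snd) condA transA_1 candA2_1 = true := by
  decide +kernel

theorem walkA2_2 : walk gensLit eltA fixAH2 baseA1 (leviA.map Prod.snd) condA transA_2 candA2_2 = true := by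
  decide +kernel

theorem walkA2_3 : walk gensLit eltA fixAH2 baseA1 (leviA.map Prod.snd) condA transA_3 candA2_3 = true := by
  decide +kernel

theorem walkA2_4 : walk gensLit eltA fixAH2 baseA1 (leviA.map Prod.snd) condA transA_4 candA2_4 = true := by
  decide +kernel

theorem walkA2_5 : walk gensLit eltA fixAH2 baseA1 (leviA.map Prod.snd) condA transA_5 candA2_5 = true := by
  decide +kernel

theorem walkA2_6 : walk gensLit eltA fixAH2 baseA1 (leviA.map Prod.snd) condA transA_6 candA2_6 = true := by
  decide +kernel

theorem walkA2_7 : walk gensLit eltA fixAH2 baseA1 (leviA.map Prod.snd) condA transA_7 candA2_7 = true := by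
  decide +kernel

theorem walkA2_8 : walk gensLit eltA fixAH2 baseA1 (leviA.map Prod.snd) condA transA_8 candA2_8 = true := by
  decide +kernel

theorem walkA2_9 : walk gensLit eltA fixAH2 baseA1 (leviA.map Prod.snd) condA transA_9 candA2_9 = true := by
  decide +kernel

theorem walkA2_10 : walk gensLit eltA fixAH2 baseA1 (leviA.map Prod.snd) condA transA_10 candA2_10 = true := by
  decide +kernel

theorem walkA2_11 : walk gensLit eltA fixAH2 baseA1 (leviA.map Prod.snd) condA transA_11 candA2_11 = true := by
  decide +kernel

theorem walkA2_12 : walk gensLit eltA fixAH2 baseA1 (leviA.map Prod.snd) condA transA_12 candA2_12 = true := by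
  decide +kernel

theorem walkA2_13 : walk gensLit eltA fixAH2 baseA1 (leviA.map Prod.snd) condA transA_13 candA2_13 = true := by
  decide +kernel

theorem walkA2_14 : walk gensLit eltA fixAH2 baseA1 (leviA.map Prod.snd) condA transA_14 candA2_14 = true := by
  decide +kernel

theorem walkA2_15 : walk gensLit eltA fixAH2 baseA1 (leviA.map Prod.snd) condA transA_15 candA2_15 = true := by
  decide +kernel

end Cfsg.Agent.D4Iso
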