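import Cfsg.Agent.Lib.D4Iso.CondDefs
import Cfsg.Agent.Lib.D4Iso.Rep
import Cfsg.Agent.Lib.D4Iso.DataA

/-! Kernel checks for the A points. -/

set_option autoImplicit false
set_option maxRecDepth 100000
set_option Elab.async false

namespace Cfsg.Agent.D4Iso

theorem fixA_h3 : (matW fixAW3 == fixAH3) = true := by decide +kernel

theorem walkA3_0 : walk gensLit eltA fixAH3 baseA1 (leviA.map Prod.snd) condA transA_0 candA3_0 = true := by
  decide +kernel

theorem walkA3_1 : walk gensLit eltA fixAH3 baseA1 (leviA.map Prod.snd) condA transA_1 candA3_1 = true := by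
  decide +kernel

theorem walkA3_2 : walk gensLit eltA fixAH3 baseA1 (leviA.map Prod.snd) condA transA_2 candA3_2 = true := by
  decide +kernel

theorem walkA3_3 : walk gensLit eltA fixAH3 baseA1 (leviA.map Prod.snd) condA transA_3 candA3_3 = true := by
  decide +kernel

theorem walkA3_4 : walk gensLit eltA fixAH3 baseA1 (leviA.map Prod.snd) condA transA_4 candA3_4 = true := by
  decide +kernel

theorem walkA3_5 : walk gensLit eltA fixAH3 baseA1 (leviA.map Prod.snd) condA transA_5 candA3_5 = true := by
  decide +kernel

theorem walkA3_6 : walk gensLit eltA fixAH3 baseA1 (leviA.map Prod.snd) condA transA_6 candA3_6 = true := by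
  decide +kernel

theorem walkA3_7 : walk gensLit eltA fixAH3 baseA1 (leviA.map Prod.snd) condA transA_7 candA3_7 = true := by
  decide +kernel

theorem walkA3_8 : walk gensLit eltA fixAH3 baseA1 (leviA.map Prod.snd) condA transA_8 candA3_8 = true := by
  decide +kernel

theorem walkA3_9 : walk gensLit eltA fixAH3 baseA1 (leviA.map Prod.snd) condA transA_9 candA3_9 = true := by
  decide +kernel

theorem walkA3_10 : walk gensLit eltA fixAH3 baseA1 (leviA.map Prod.snd) condA transA_10 candA3_10 = true := by
  decide +kernel

theorem walkA3_11 : walk gensLit eltA fixAH3 baseA1 (leviA.map Prod.snd) condA transA_11 candA3_11 = true := by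
  decide +kernel

theorem walkA3_12 : walk gensLit eltA fixAH3 baseA1 (leviA.map Prod.snd) condA transA_12 candA3_12 = true := by
  decide +kernel

theorem walkA3_13 : walk gensLit eltA fixAH3 baseA1 (leviA.map Prod.snd) condA transA_13 candA3_13 = true := by
  decide +kernel

theorem walkA3_14 : walk gensLit eltA fixAH3 baseA1 (leviA.map Prod.snd) condA transA_14 candA3_14 = true := by
  decide +kernel

theorem walkA3_15 : walk gensLit eltA fixAH3 baseA1 (leviA.map Prod.snd) condA transA_15 candA3_15 = true := by
  decide +kernel

theorem fixA_h4 : (matW fixAW4 == fixAH4) = true := by decide +kernel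

theorem walkA4_0 : walk gensLit eltA fixAH4 baseA1 (leviA.map Prod.snd) condA transA_0 candA4_0 = true := by
  decide +kernel

theorem walkA4_1 : walk gensLit eltA fixAH4 baseA1 (leviA.map Prod.snd) condA transA_1 candA4_1 = true := by
  decide +kernel

theorem walkA4_2 : walk gensLit eltA fixAH4 baseA1 (leviA.map Prod.snd) condA transA_2 candA4_2 = true := by
  decide +kernel

theorem walkA4_3 : walk gensLit eltA fixAH4 baseA1 (leviA.map Prod.snd) condA transA_3 candA4_3 = true := by
  decide +kernel

theorem walkA4_4 : walk gensLit eltA fixAH4 baseA1 (leviA.map Prod.snd) condA transA_4 candA4_4 = true := by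
  decide +kernel

theorem walkA4_5 : walk gensLit eltA fixAH4 baseA1 (leviA.map Prod.snd) condA transA_5 candA4_5 = true := by
  decide +kernel

theorem walkA4_6 : walk gensLit eltA fixAH4 baseA1 (leviA.map Prod.snd) condA transA_6 candA4_6 = true := by
  decide +kernel

theorem walkA4_7 : walk gensLit eltA fixAH4 baseA1 (leviA.map Prod.snd) condA transA_7 candA4_7 = true := by
  decide +kernel

theorem walkA4_8 : walk gensLit eltA fixAH4 baseA1 (leviA.map Prod.snd) condA transA_8 candA4_8 = true := by
  decide +kernel

theorem walkA4_9 : walk gensLit eltA fixAH4 baseA1 (leviA.map Prod.snd) condA transA_9 candA4_9 = true := by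
  decide +kernel

theorem walkA4_10 : walk gensLit eltA fixAH4 baseA1 (leviA.map Prod.snd) condA transA_10 candA4_10 = true := by
  decide +kernel

theorem walkA4_11 : walk gensLit eltA fixAH4 baseA1 (leviA.map Prod.snd) condA transA_11 candA4_11 = true := by
  decide +kernel

theorem walkA4_12 : walk gensLit eltA fixAH4 baseA1 (leviA.map Prod.snd) condA transA_12 candA4_12 = true := by
  decide +kernel

theorem walkA4_13 : walk gensLit eltA fixAH4 baseA1 (leviA.map Prod.snd) condA transA_13 candA4_13 = true := by
  decide +kernel

theorem walkA4_14 : walk gensLit eltA fixAH4 baseA1 (leviA.map Prod.snd) condA transA_14 candA4_14 = true := by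
  decide +kernel

theorem walkA4_15 : walk gensLit eltA fixAH4 baseA1 (leviA.map Prod.snd) condA transA_15 candA4_15 = true := by
  decide +kernel

theorem fixA_h5 : (matW fixAW5 == fixAH5) = true := by decide +kernel

theorem walkA5_0 : walk gensLit eltA fixAH5 baseA1 (leviA.map Prod.snd) condA transA_0 candA5_0 = true := by
  decide +kernel

theorem walkA5_1 : walk gensLit eltA fixAH5 baseA1 (leviA.map Prod.snd) condA transA_1 candA5_1 = true := by
  decide +kernel

theorem walkA5_2 : walk gensLit eltA fixAH5 baseA1 (leviA.map Prod.snd) condA transA_2 candA5_2 = true := by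
  decide +kernel

theorem walkA5_3 : walk gensLit eltA fixAH5 baseA1 (leviA.map Prod.snd) condA transA_3 candA5_3 = true := by
  decide +kernel

theorem walkA5_4 : walk gensLit eltA fixAH5 baseA1 (leviA.map Prod.snd) condA transA_4 candA5_4 = true := by
  decide +kernel

theorem walkA5_5 : walk gensLit eltA fixAH5 baseA1 (leviA.map Prod.snd) condA transA_5 candA5_5 = true := by
  decide +kernel

theorem walkA5_6 : walk gensLit eltA fixAH5 baseA1 (leviA.map Prod.snd) condA transA_6 candA5_6 = true := by
  decide +kernel

theorem walkA5_7 : walk gensLit eltA fixAH5 baseA1 (leviA.map Prod.snd) condA transA_7 candA5_7 = true := by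
  decide +kernel

theorem walkA5_8 : walk gensLit eltA fixAH5 baseA1 (leviA.map Prod.snd) condA transA_8 candA5_8 = true := by
  decide +kernel

theorem walkA5_9 : walk gensLit eltA fixAH5 baseA1 (leviA.map Prod.snd) condA transA_9 candA5_9 = true := by
  decide +kernel

theorem walkA5_10 : walk gensLit eltA fixAH5 baseA1 (leviA.map Prod.snd) condA transA_10 candA5_10 = true := by
  decide +kernel

theorem walkA5_11 : walk gensLit eltA fixAH5 baseA1 (leviA.map Prod.snd) condA transA_11 candA5_11 = true := by
  decide +kernel

theorem walkA5_12 : walk gensLit eltA fixAH5 baseA1 (leviA.map Prod.snd) condA transA_12 candA5_12 = true := by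
  decide +kernel

theorem walkA5_13 : walk gensLit eltA fixAH5 baseA1 (leviA.map Prod.snd) condA transA_13 candA5_13 = true := by
  decide +kernel

theorem walkA5_14 : walk gensLit eltA fixAH5 baseA1 (leviA.map Prod.snd) condA transA_14 candA5_14 = true := by
  decide +kernel

theorem walkA5_15 : walk gensLit eltA fixAH5 baseA1 (leviA.map Prod.snd) condA transA_15 candA5_15 = true := by
  decide +kernel

end Cfsg.Agent.D4Iso
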