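import Cfsg.Agent.Lib.D4Iso.CondDefs
import Cfsg.Agent.Lib.D4Iso.Rep
import Cfsg.Agent.Lib.D4Iso.DataA

/-! Kernel checks for the A points. -/

set_option autoImplicit false
set_option maxRecDepth 100000
set_option Elab.async false

namespace Cfsg.Agent.D4Iso

theorem fixA_h6 : (matW fixAW6 == fixAH6) = true := by decide +kernel

theorem walkA6_0 : walk gensLit eltA fixAH6 baseA1 (leviA.map Prod.snd) condA transA_0 candA6_0 = true := by
  decide +kernel

theorem walkA6_1 : walk gensLit eltA fixAH6 baseA1 (leviA.map Prod.snd) condA transA_1 candA6_1 = true := by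
  decide +kernel

theorem walkA6_2 : walk gensLit eltA fixAH6 baseA1 (leviA.map Prod.snd) condA transA_2 candA6_2 = true := by
  decide +kernel

theorem walkA6_3 : walk gensLit eltA fixAH6 baseA1 (leviA.map Prod.snd) condA transA_3 candA6_3 = true := by
  decide +kernel

theorem walkA6_4 : walk gensLit eltA fixAH6 baseA1 (leviA.map Prod.snd) condA transA_4 candA6_4 = true := by
  decide +kernel

theorem walkA6_5 : walk gensLit eltA fixAH6 baseA1 (leviA.map Prod.snd) condA transA_5 candA6_5 = true := by
  decide +kernel

theorem walkA6_6 : walk gensLit eltA fixAH6 baseA1 (leviA.map Prod.snd) condA transA_6 candA6_6 = true := by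
  decide +kernel

theorem walkA6_7 : walk gensLit eltA fixAH6 baseA1 (leviA.map Prod.snd) condA transA_7 candA6_7 = true := by
  decide +kernel

theorem walkA6_8 : walk gensLit eltA fixAH6 baseA1 (leviA.map Prod.snd) condA transA_8 candA6_8 = true := by
  decide +kernel

theorem walkA6_9 : walk gensLit eltA fixAH6 baseA1 (leviA.map Prod.snd) condA transA_9 candA6_9 = true := by
  decide +kernel

theorem walkA6_10 : walk gensLit eltA fixAH6 baseA1 (leviA.map Prod.snd) condA transA_10 candA6_10 = true := by
  decide +kernel

theorem walkA6_11 : walk gensLit eltA fixAH6 baseA1 (leviA.map Prod.snd) condA transA_11 candA6_11 = true := by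
  decide +kernel

theorem walkA6_12 : walk gensLit eltA fixAH6 baseA1 (leviA.map Prod.snd) condA transA_12 candA6_12 = true := by
  decide +kernel

theorem walkA6_13 : walk gensLit eltA fixAH6 baseA1 (leviA.map Prod.snd) condA transA_13 candA6_13 = true := by
  decide +kernel

theorem walkA6_14 : walk gensLit eltA fixAH6 baseA1 (leviA.map Prod.snd) condA transA_14 candA6_14 = true := by
  decide +kernel

theorem walkA6_15 : walk gensLit eltA fixAH6 baseA1 (leviA.map Prod.snd) condA transA_15 candA6_15 = true := by
  decide +kernel

theorem fixA_h7 : (matW fixAW7 == fixAH7) = true := by decide +kernel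

theorem walkA7_0 : walk gensLit eltA fixAH7 baseA1 (leviA.map Prod.snd) condA transA_0 candA7_0 = true := by
  decide +kernel

theorem walkA7_1 : walk gensLit eltA fixAH7 baseA1 (leviA.map Prod.snd) condA transA_1 candA7_1 = true := by
  decide +kernel

theorem walkA7_2 : walk gensLit eltA fixAH7 baseA1 (leviA.map Prod.snd) condA transA_2 candA7_2 = true := by
  decide +kernel

theorem walkA7_3 : walk gensLit eltA fixAH7 baseA1 (leviA.map Prod.snd) condA transA_3 candA7_3 = true := by
  decide +kernel

theorem walkA7_4 : walk gensLit eltA fixAH7 baseA1 (leviA.map Prod.snd) condA transA_4 candA7_4 = true := by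
  decide +kernel

theorem walkA7_5 : walk gensLit eltA fixAH7 baseA1 (leviA.map Prod.snd) condA transA_5 candA7_5 = true := by
  decide +kernel

theorem walkA7_6 : walk gensLit eltA fixAH7 baseA1 (leviA.map Prod.snd) condA transA_6 candA7_6 = true := by
  decide +kernel

theorem walkA7_7 : walk gensLit eltA fixAH7 baseA1 (leviA.map Prod.snd) condA transA_7 candA7_7 = true := by
  decide +kernel

theorem walkA7_8 : walk gensLit eltA fixAH7 baseA1 (leviA.map Prod.snd) condA transA_8 candA7_8 = true := by
  decide +kernel

theorem walkA7_9 : walk gensLit eltA fixAH7 baseA1 (leviA.map Prod.snd) condA transA_9 candA7_9 = true := by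
  decide +kernel

theorem walkA7_10 : walk gensLit eltA fixAH7 baseA1 (leviA.map Prod.snd) condA transA_10 candA7_10 = true := by
  decide +kernel

theorem walkA7_11 : walk gensLit eltA fixAH7 baseA1 (leviA.map Prod.snd) condA transA_11 candA7_11 = true := by
  decide +kernel

theorem walkA7_12 : walk gensLit eltA fixAH7 baseA1 (leviA.map Prod.snd) condA transA_12 candA7_12 = true := by
  decide +kernel

theorem walkA7_13 : walk gensLit eltA fixAH7 baseA1 (leviA.map Prod.snd) condA transA_13 candA7_13 = true := by
  decide +kernel

theorem walkA7_14 : walk gensLit eltA fixAH7 baseA1 (leviA.map Prod.snd) condA transA_14 candA7_14 = true := by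
  decide +kernel

theorem walkA7_15 : walk gensLit eltA fixAH7 baseA1 (leviA.map Prod.snd) condA transA_15 candA7_15 = true := by
  decide +kernel

theorem fixA_h8 : (matW fixAW8 == fixAH8) = true := by decide +kernel

theorem walkA8_0 : walk gensLit eltA fixAH8 baseA1 (leviA.map Prod.snd) condA transA_0 candA8_0 = true := by
  decide +kernel

theorem walkA8_1 : walk gensLit eltA fixAH8 baseA1 (leviA.map Prod.snd) condA transA_1 candA8_1 = true := by
  decide +kernel

theorem walkA8_2 : walk gensLit eltA fixAH8 baseA1 (leviA.map Prod.snd) condA transA_2 candA8_2 = true := by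
  decide +kernel

theorem walkA8_3 : walk gensLit eltA fixAH8 baseA1 (leviA.map Prod.snd) condA transA_3 candA8_3 = true := by
  decide +kernel

theorem walkA8_4 : walk gensLit eltA fixAH8 baseA1 (leviA.map Prod.snd) condA transA_4 candA8_4 = true := by
  decide +kernel

theorem walkA8_5 : walk gensLit eltA fixAH8 baseA1 (leviA.map Prod.snd) condA transA_5 candA8_5 = true := by
  decide +kernel

theorem walkA8_6 : walk gensLit eltA fixAH8 baseA1 (leviA.map Prod.snd) condA transA_6 candA8_6 = true := by
  decide +kernel

theorem walkA8_7 : walk gensLit eltA fixAH8 baseA1 (leviA.map Prod.snd) condA transA_7 candA8_7 = true := by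
  decide +kernel

theorem walkA8_8 : walk gensLit eltA fixAH8 baseA1 (leviA.map Prod.snd) condA transA_8 candA8_8 = true := by
  decide +kernel

theorem walkA8_9 : walk gensLit eltA fixAH8 baseA1 (leviA.map Prod.snd) condA transA_9 candA8_9 = true := by
  decide +kernel

theorem walkA8_10 : walk gensLit eltA fixAH8 baseA1 (leviA.map Prod.snd) condA transA_10 candA8_10 = true := by
  decide +kernel

theorem walkA8_11 : walk gensLit eltA fixAH8 baseA1 (leviA.map Prod.snd) condA transA_11 candA8_11 = true := by
  decide +kernel

theorem walkA8_12 : walk gensLit eltA fixAH8 baseA1 (leviA.map Prod.snd) condA transA_12 candA8_12 = true := by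
  decide +kernel

theorem walkA8_13 : walk gensLit eltA fixAH8 baseA1 (leviA.map Prod.snd) condA transA_13 candA8_13 = true := by
  decide +kernel

theorem walkA8_14 : walk gensLit eltA fixAH8 baseA1 (leviA.map Prod.snd) condA transA_14 candA8_14 = true := by
  decide +kernel

theorem walkA8_15 : walk gensLit eltA fixAH8 baseA1 (leviA.map Prod.snd) condA transA_15 candA8_15 = true := by
  decide +kernel

end Cfsg.Agent.D4Iso
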