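import Cfsg.Agent.Lib.D4Iso.Check

/-! The generator matrices as literals. -/

set_option autoImplicit false

namespace Cfsg.Agent.D4Iso

/-- The generators. -/
def gensLit : List (List ℕ) :=
  [[1, 2, 4, 520, 1040, 2080, 65, 130, 260, 512, 1024, 2048, 4096, 8192, 16384, 2396160, 4792320, 9584640, 266240, 532480, 1064960, 2101248, 4202496, 8404992],
   [1, 2, 4, 1032, 2064, 1568, 66, 132, 259, 512, 1024, 2048, 4096, 8192, 16384, 10014720, 8196096, 14032896, 278528, 536576, 1073152, 2121728, 4222976, 8409088],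
   [1, 2, 4, 2056, 1552, 3104, 68, 131, 262, 512, 1024, 2048, 4096, 8192, 16384, 13168640, 15814656, 11407360, 286720, 552960, 1069056, 2105344, 4210688, 8400896],
   [65, 130, 260, 8, 16, 32, 64, 128, 256, 520, 1040, 2080, 2396160, 4792320, 9584640, 32768, 65536, 131072, 294912, 589824, 1179648, 2129920, 4259840, 8519680],
   [129, 258, 196, 8, 16, 32, 64, 128, 256, 528, 1056, 2072, 13799424, 15507456, 12140544, 32768, 65536, 131072, 458752, 753664, 1212416, 2228224, 4292608, 8585216],
   [257, 194, 388, 8, 16, 32, 64, 128, 256, 544, 1048, 2096, 6000640, 10395648, 7651328, 32768, 65536, 131072, 327680, 655360, 1146880, 2293760, 4423680, 8552448],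
   [1, 2, 4, 8, 16, 32, 64, 128, 256, 33280, 66560, 133120, 4160, 8320, 16640, 32768, 65536, 131072, 262144, 524288, 1048576, 2097152, 4194304, 8388608],
   [1, 2, 4, 8, 16, 32, 4160, 8320, 16640, 512, 1024, 2048, 4096, 8192, 16384, 33280, 66560, 133120, 262144, 524288, 1048576, 2097152, 4194304, 8388608]]

end Cfsg.Agent.D4Iso
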