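import Cfsg.Agent.Lib.D4Iso.Check
import Cfsg.Agent.Lib.D4Iso.GenList
import Cfsg.Agent.Lib.D4Iso.DataA
import Cfsg.Agent.Lib.D4Iso.DataB

/-! Conditions on centralising elements. -/

set_option autoImplicit false

namespace Cfsg.Agent.D4Iso

/-- In the centraliser of the first element: no element of order four, and elements of order seven move its
fixed space. -/
def condA (c : List ℕ) : Bool :=
  (!(pw c 4 == idM) || pw c 2 == idM) && (!(pw c 7 == idM) || c == idM || mm (psum c 7) (psum eltA 3) == zeroM)

/-- In the centraliser of the second element: no element of order seven. -/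
def condB (c : List ℕ) : Bool := !(pw c 7 == idM) || c == idM

end Cfsg.Agent.D4Iso
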