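import Cfsg.Agent.Lib.D4Iso.Cover
import Cfsg.Agent.Lib.D4Iso.CondDefs

/-! Conditions on centralising elements, and gluing of range checks. -/

set_option autoImplicit false

namespace Cfsg.Agent.D4Iso

/-- Ranges cover `[0, n)`. -/
def coversB : ℕ → List (ℕ × ℕ) → ℕ → Bool
  | a, [], n => Nat.beq a n
  | a, q :: qs, n => Nat.beq a q.1 && Nat.ble q.1 q.2 && coversB q.2 qs n

theorem coversB_spec : ∀ {qs : List (ℕ × ℕ)} {a n : ℕ}, coversB a qs n = true → ∀ i, a ≤ i → i < n →
    ∃ q ∈ qs, q.1 ≤ i ∧ i < q.2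
  | [], a, n, h, i, h1, h2 => by simp [coversB] at h; omega
  | q :: qs, a, n, h, i, h1, h2 => by
    simp only [coversB, Bool.and_eq_true, Nat.beq_eq, Nat.ble_eq] at h
    obtain ⟨⟨rfl, hle⟩, h3⟩ := h
    rcases lt_or_ge i q.2 with hi | hi
    · exact ⟨q, List.mem_cons_self, h1, hi⟩
    · obtain ⟨r, hr, hr'⟩ := coversB_spec h3 i hi h2
      exact ⟨r, List.mem_cons_of_mem _ hr, hr'⟩

theorem okRange_all {D : OrbitData} {G : List (List ℕ)} (hG : (G == genMats) = true) (qs : List (ℕ × ℕ))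
    (hc : coversB 0 qs D.n = true) (h : ∀ q ∈ qs, D.okRange G q.1 q.2 = true) :
    ∀ i < D.n, D.ok genMats i = true := by
  intro i hi
  obtain ⟨q, hq, h1, h2⟩ := coversB_spec hc i (Nat.zero_le i) hi
  have := h q hq
  simp only [OrbitData.okRange, List.all_eq_true, List.mem_range] at this
  have := this (i - q.1) (by omega)
  rwa [show q.1 + (i - q.1) = i by omega, beq_iff_eq.1 hG] at this

theorem fixedIn_all {D : OrbitData} {X fidx : List ℕ} (qs : List (ℕ × ℕ)) (hc : coversB 0 qs D.n = true)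
    (h : ∀ q ∈ qs, fixedIn D X fidx q.1 q.2 = true) : ∀ i < D.n, fixedIn D X fidx i (i + 1) = true := by
  intro i hi
  obtain ⟨q, hq, h1, h2⟩ := coversB_spec hc i (Nat.zero_le i) hi
  have := h q hq
  simp only [fixedIn, List.all_eq_true, List.mem_range] at this
  have := this (i - q.1) (by omega)
  rw [show q.1 + (i - q.1) = i by omega] at this
  simpa [fixedIn] using this

end Cfsg.Agent.D4Iso
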