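import Cfsg.Agent.Lib.D4Iso.Cover
import Cfsg.Agent.Lib.D4Iso.Conds
import Cfsg.Agent.Lib.D4Iso.CertAWalk0
import Cfsg.Agent.Lib.D4Iso.CertAWalk1
import Cfsg.Agent.Lib.D4Iso.CertAWalk2
import Cfsg.Agent.Lib.D4Iso.CertAOrb0
import Cfsg.Agent.Lib.D4Iso.CertAOrb1

/-! Kernel checks for the A points. -/

set_option autoImplicit false
set_option maxRecDepth 100000
set_option Elab.async false

namespace Cfsg.Agent.D4Iso

theorem transA_ok0 : transOK gensLit baseA0 baseA1 oppA transA_0 0 = true := by decide +kernel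

theorem transA_ok1 : transOK gensLit baseA0 baseA1 oppA transA_1 128 = true := by decide +kernel

theorem transA_ok2 : transOK gensLit baseA0 baseA1 oppA transA_2 256 = true := by decide +kernel

theorem transA_ok3 : transOK gensLit baseA0 baseA1 oppA transA_3 384 = true := by decide +kernel

theorem transA_ok4 : transOK gensLit baseA0 baseA1 oppA transA_4 512 = true := by decide +kernel

theorem transA_ok5 : transOK gensLit baseA0 baseA1 oppA transA_5 640 = true := by decide +kernel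

theorem transA_ok6 : transOK gensLit baseA0 baseA1 oppA transA_6 768 = true := by decide +kernel

theorem transA_ok7 : transOK gensLit baseA0 baseA1 oppA transA_7 896 = true := by decide +kernel

theorem transA_ok8 : transOK gensLit baseA0 baseA1 oppA transA_8 1024 = true := by decide +kernel

theorem transA_ok9 : transOK gensLit baseA0 baseA1 oppA transA_9 1152 = true := by decide +kernel

theorem transA_ok10 : transOK gensLit baseA0 baseA1 oppA transA_10 1280 = true := by decide +kernel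

theorem transA_ok11 : transOK gensLit baseA0 baseA1 oppA transA_11 1408 = true := by decide +kernel

theorem transA_ok12 : transOK gensLit baseA0 baseA1 oppA transA_12 1536 = true := by decide +kernel

theorem transA_ok13 : transOK gensLit baseA0 baseA1 oppA transA_13 1664 = true := by decide +kernel

theorem transA_ok14 : transOK gensLit baseA0 baseA1 oppA transA_14 1792 = true := by decide +kernel

theorem transA_ok15 : transOK gensLit baseA0 baseA1 oppA transA_15 1920 = true := by decide +kernel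

theorem transA_ok : transOK genMats baseA0 baseA1 oppA transA 0 = true := by
  unfold transA
  exact (transOK_append (transOK_append (transOK_append (transOK_append (transOK_append (transOK_append (transOK_append (transOK_append (transOK_append (transOK_append (transOK_append (transOK_append (transOK_append (transOK_append (transOK_append (gens_eq ▸ transA_ok0) (gens_eq ▸ transA_ok1) (by decide +kernel)) (gens_eq ▸ transA_ok2) (by decide +kernel)) (gens_eq ▸ transA_ok3) (by decide +kernel)) (gens_eq ▸ transA_ok4) (by decide +kernel)) (gens_eq ▸ transA_ok5) (by decide +kernel)) (gens_eq ▸ transA_ok6) (by decide +kernel)) (gens_eq ▸ transA_ok7) (by decide +kernel)) (gens_eq ▸ transA_ok8) (by decide +kernel)) (gens_eq ▸ transA_ok9) (by decide +kernel)) (gens_eq ▸ transA_ok10) (by decide +kernel)) (gens_eq ▸ transA_ok11) (by decide +kernel)) (gens_eq ▸ transA_ok12) (by decide +kernel)) (gens_eq ▸ transA_ok13) (by decide +kernel)) (gens_eq ▸ transA_ok14) (by decide +kernel))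 (gens_eq ▸ transA_ok15) (by decide +kernel))

theorem frameA : FrameOK orbA baseA0 baseA1 oppA transA leviA where
  ok := okRange_all (G := gensLit) (by decide +kernel) [(0, 128), (128, 256), (256, 384), (384, 512), (512, 640), (640, 768), (768, 896), (896, 1024), (1024, 1152), (1152, 1280), (1280, 1408), (1408, 1536), (1536, 1664), (1664, 1792), (1792, 1920), (1920, 2048), (2048, 2176), (2176, 2304), (2304, 2432), (2432, 2457)] (by decide +kernel) (by
    intro q hq
    simp only [List.mem_cons, List.not_mem_nil, or_false] at hq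
    rcases hq with rfl | rfl | rfl | rfl | rfl | rfl | rfl | rfl | rfl | rfl | rfl | rfl | rfl | rfl | rfl | rfl | rfl | rfl | rfl | rfl
    exacts [orbA_ok0, orbA_ok1, orbA_ok2, orbA_ok3, orbA_ok4, orbA_ok5, orbA_ok6, orbA_ok7, orbA_ok8, orbA_ok9, orbA_ok10, orbA_ok11, orbA_ok12, orbA_ok13, orbA_ok14, orbA_ok15, orbA_ok16, orbA_ok17, orbA_ok18, orbA_ok19])
  pos := by decide +kernel
  base := by decide +kernel
  bd1 := by decide +kernel
  trans := transA_ok
  words := by decide +kernel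
  nodup := by decide +kernel
  fix := by decide +kernel
  count := by decide +kernel

theorem fixedA : ∀ i < orbA.n, fixedIn orbA eltA fixA i (i + 1) = true := fixedIn_all [(0, 128), (128, 256), (256, 384), (384, 512), (512, 640), (640, 768), (768, 896), (896, 1024), (1024, 1152), (1152, 1280), (1280, 1408), (1408, 1536), (1536, 1664), (1664, 1792), (1792, 1920), (1920, 2048), (2048, 2176), (2176, 2304), (2304, 2432), (2432, 2457)] (by decide +kernel) (by
    intro q hq
    simp only [List.mem_cons, List.not_mem_nil, or_false] at hq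
    rcases hq with rfl | rfl | rfl | rfl | rfl | rfl | rfl | rfl | rfl | rfl | rfl | rfl | rfl | rfl | rfl | rfl | rfl | rfl | rfl | rfl
    exacts [orbA_fixd0, orbA_fixd1, orbA_fixd2, orbA_fixd3, orbA_fixd4, orbA_fixd5, orbA_fixd6, orbA_fixd7, orbA_fixd8, orbA_fixd9, orbA_fixd10, orbA_fixd11, orbA_fixd12, orbA_fixd13, orbA_fixd14, orbA_fixd15, orbA_fixd16, orbA_fixd17, orbA_fixd18, orbA_fixd19])

theorem eltXA : matW eltAW = eltA ∧ fixOK baseA0 baseA1 [eltA] = true := by decide +kernel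

theorem candA_at0 : ∀ w ∈ transA, CandAt eltA fixAH0 baseA1 (leviA.map Prod.snd) condA w := by
  intro w hw
  simp only [transA, List.mem_append] at hw
  rcases hw with ((((((((((((((hw | hw) | hw) | hw) | hw) | hw) | hw) | hw) | hw) | hw) | hw) | hw) | hw) | hw) | hw) | hw
  exacts [walk_sound (gens_eq ▸ walkA0_0) w hw, walk_sound (gens_eq ▸ walkA0_1) w hw, walk_sound (gens_eq ▸ walkA0_2) w hw, walk_sound (gens_eq ▸ walkA0_3) w hw, walk_sound (gens_eq ▸ walkA0_4) w hw, walk_sound (gens_eq ▸ walkA0_5) w hw, walk_sound (gens_eq ▸ walkA0_6) w hw, walk_sound (gens_eq ▸ walkA0_7) w hw, walk_sound (gens_eq ▸ walkA0_8) w hw, walk_sound (gens_eq ▸ walkA0_9) w hw, walk_sound (gens_eq ▸ walkA0_10) w hw, walk_sound (gens_eq ▸ walkA0_11) w hw, walk_sound (gens_eq ▸ walkA0_12) w hw, walk_sound (gens_eq ▸ walkA0_13) w hw, walk_sound (gens_eq ▸ walkA0_14) w hw, walk_sound (gens_eq ▸ walkA0_15) w hw]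

theorem candA_at1 : ∀ w ∈ transA, CandAt eltA fixAH1 baseA1 (leviA.map Prod.snd) condA w := by
  intro w hw
  simp only [transA, List.mem_append] at hw
  rcases hw with ((((((((((((((hw | hw) | hw) | hw) | hw) | hw) | hw) | hw) | hw) | hw) | hw) | hw) | hw) | hw) | hw) | hw
  exacts [walk_sound (gens_eq ▸ walkA1_0) w hw, walk_sound (gens_eq ▸ walkA1_1) w hw, walk_sound (gens_eq ▸ walkA1_2) w hw, walk_sound (gens_eq ▸ walkA1_3) w hw, walk_sound (gens_eq ▸ walkA1_4) w hw, walk_sound (gens_eq ▸ walkA1_5) w hw, walk_sound (gens_eq ▸ walkA1_6) w hw, walk_sound (gens_eq ▸ walkA1_7) w hw, walk_sound (gens_eq ▸ walkA1_8) w hw, walk_sound (gens_eq ▸ walkA1_9) w hw, walk_sound (gens_eq ▸ walkA1_10) w hw, walk_sound (gens_eq ▸ walkA1_11) w hw, walk_sound (gens_eq ▸ walkA1_12) w hw, walk_sound (gens_eq ▸ walkA1_13) w hw, walk_sound (gens_eq ▸ walkA1_14) w hw, walk_sound (gens_eq ▸ walkA1_15) w hw]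

theorem candA_at2 : ∀ w ∈ transA, CandAt eltA fixAH2 baseA1 (leviA.map Prod.snd) condA w := by
  intro w hw
  simp only [transA, List.mem_append] at hw
  rcases hw with ((((((((((((((hw | hw) | hw) | hw) | hw) | hw) | hw) | hw) | hw) | hw) | hw) | hw) | hw) | hw) | hw) | hw
  exacts [walk_sound (gens_eq ▸ walkA2_0) w hw, walk_sound (gens_eq ▸ walkA2_1) w hw, walk_sound (gens_eq ▸ walkA2_2) w hw, walk_sound (gens_eq ▸ walkA2_3) w hw, walk_sound (gens_eq ▸ walkA2_4) w hw, walk_sound (gens_eq ▸ walkA2_5) w hw, walk_sound (gens_eq ▸ walkA2_6) w hw, walk_sound (gens_eq ▸ walkA2_7) w hw, walk_sound (gens_eq ▸ walkA2_8) w hw, walk_sound (gens_eq ▸ walkA2_9) w hw, walk_sound (gens_eq ▸ walkA2_10) w hw, walk_sound (gens_eq ▸ walkA2_11) w hw, walk_sound (gens_eq ▸ walkA2_12) w hw, walk_sound (gens_eq ▸ walkA2_13) w hw, walk_sound (gens_eq ▸ walkA2_14) w hw, walk_sound (gens_eq ▸ walkA2_15) w hw]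

theorem candA_at3 : ∀ w ∈ transA, CandAt eltA fixAH3 baseA1 (leviA.map Prod.snd) condA w := by
  intro w hw
  simp only [transA, List.mem_append] at hw
  rcases hw with ((((((((((((((hw | hw) | hw) | hw) | hw) | hw) | hw) | hw) | hw) | hw) | hw) | hw) | hw) | hw) | hw) | hw
  exacts [walk_sound (gens_eq ▸ walkA3_0) w hw, walk_sound (gens_eq ▸ walkA3_1) w hw, walk_sound (gens_eq ▸ walkA3_2) w hw, walk_sound (gens_eq ▸ walkA3_3) w hw, walk_sound (gens_eq ▸ walkA3_4) w hw, walk_sound (gens_eq ▸ walkA3_5) w hw, walk_sound (gens_eq ▸ walkA3_6) w hw, walk_sound (gens_eq ▸ walkA3_7) w hw, walk_sound (gens_eq ▸ walkA3_8) w hw, walk_sound (gens_eq ▸ walkA3_9) w hw, walk_sound (gens_eq ▸ walkA3_10) w hw, walk_sound (gens_eq ▸ walkA3_11) w hw, walk_sound (gens_eq ▸ walkA3_12) w hw, walk_sound (gens_eq ▸ walkA3_13) w hw, walk_sound (gens_eq ▸ walkA3_14) w hw, walk_sound (gens_eq ▸ walkA3_15) w hw]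

theorem candA_at4 : ∀ w ∈ transA, CandAt eltA fixAH4 baseA1 (leviA.map Prod.snd) condA w := by
  intro w hw
  simp only [transA, List.mem_append] at hw
  rcases hw with ((((((((((((((hw | hw) | hw) | hw) | hw) | hw) | hw) | hw) | hw) | hw) | hw) | hw) | hw) | hw) | hw) | hw
  exacts [walk_sound (gens_eq ▸ walkA4_0) w hw, walk_sound (gens_eq ▸ walkA4_1) w hw, walk_sound (gens_eq ▸ walkA4_2) w hw, walk_sound (gens_eq ▸ walkA4_3) w hw, walk_sound (gens_eq ▸ walkA4_4) w hw, walk_sound (gens_eq ▸ walkA4_5) w hw, walk_sound (gens_eq ▸ walkA4_6) w hw, walk_sound (gens_eq ▸ walkA4_7) w hw, walk_sound (gens_eq ▸ walkA4_8) w hw, walk_sound (gens_eq ▸ walkA4_9) w hw, walk_sound (gens_eq ▸ walkA4_10) w hw, walk_sound (gens_eq ▸ walkA4_11) w hw, walk_sound (gens_eq ▸ walkA4_12) w hw, walk_sound (gens_eq ▸ walkA4_13) w hw, walk_sound (gens_eq ▸ walkA4_14) w hw, walk_sound (gens_eq ▸ walkA4_15) w hw]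

theorem candA_at5 : ∀ w ∈ transA, CandAt eltA fixAH5 baseA1 (leviA.map Prod.snd) condA w := by
  intro w hw
  simp only [transA, List.mem_append] at hw
  rcases hw with ((((((((((((((hw | hw) | hw) | hw) | hw) | hw) | hw) | hw) | hw) | hw) | hw) | hw) | hw) | hw) | hw) | hw
  exacts [walk_sound (gens_eq ▸ walkA5_0) w hw, walk_sound (gens_eq ▸ walkA5_1) w hw, walk_sound (gens_eq ▸ walkA5_2) w hw, walk_sound (gens_eq ▸ walkA5_3) w hw, walk_sound (gens_eq ▸ walkA5_4) w hw, walk_sound (gens_eq ▸ walkA5_5) w hw, walk_sound (gens_eq ▸ walkA5_6) w hw, walk_sound (gens_eq ▸ walkA5_7) w hw, walk_sound (gens_eq ▸ walkA5_8) w hw, walk_sound (gens_eq ▸ walkA5_9) w hw, walk_sound (gens_eq ▸ walkA5_10) w hw, walk_sound (gens_eq ▸ walkA5_11) w hw, walk_sound (gens_eq ▸ walkA5_12) w hw, walk_sound (gens_eq ▸ walkA5_13) w hw, walk_sound (gens_eq ▸ walkA5_14) w hw, walk_sound (gens_eq ▸ walkA5_15) w hw]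

theorem candA_at6 : ∀ w ∈ transA, CandAt eltA fixAH6 baseA1 (leviA.map Prod.snd) condA w := by
  intro w hw
  simp only [transA, List.mem_append] at hw
  rcases hw with ((((((((((((((hw | hw) | hw) | hw) | hw) | hw) | hw) | hw) | hw) | hw) | hw) | hw) | hw) | hw) | hw) | hw
  exacts [walk_sound (gens_eq ▸ walkA6_0) w hw, walk_sound (gens_eq ▸ walkA6_1) w hw, walk_sound (gens_eq ▸ walkA6_2) w hw, walk_sound (gens_eq ▸ walkA6_3) w hw, walk_sound (gens_eq ▸ walkA6_4) w hw, walk_sound (gens_eq ▸ walkA6_5) w hw, walk_sound (gens_eq ▸ walkA6_6) w hw, walk_sound (gens_eq ▸ walkA6_7) w hw, walk_sound (gens_eq ▸ walkA6_8) w hw, walk_sound (gens_eq ▸ walkA6_9) w hw, walk_sound (gens_eq ▸ walkA6_10) w hw, walk_sound (gens_eq ▸ walkA6_11) w hw, walk_sound (gens_eq ▸ walkA6_12) w hw, walk_sound (gens_eq ▸ walkA6_13) w hw, walk_sound (gens_eq ▸ walkA6_14) w hw, walk_sound (gens_eq ▸ walkA6_15) w hw]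

theorem candA_at7 : ∀ w ∈ transA, CandAt eltA fixAH7 baseA1 (leviA.map Prod.snd) condA w := by
  intro w hw
  simp only [transA, List.mem_append] at hw
  rcases hw with ((((((((((((((hw | hw) | hw) | hw) | hw) | hw) | hw) | hw) | hw) | hw) | hw) | hw) | hw) | hw) | hw) | hw
  exacts [walk_sound (gens_eq ▸ walkA7_0) w hw, walk_sound (gens_eq ▸ walkA7_1) w hw, walk_sound (gens_eq ▸ walkA7_2) w hw, walk_sound (gens_eq ▸ walkA7_3) w hw, walk_sound (gens_eq ▸ walkA7_4) w hw, walk_sound (gens_eq ▸ walkA7_5) w hw, walk_sound (gens_eq ▸ walkA7_6) w hw, walk_sound (gens_eq ▸ walkA7_7) w hw, walk_sound (gens_eq ▸ walkA7_8) w hw, walk_sound (gens_eq ▸ walkA7_9) w hw, walk_sound (gens_eq ▸ walkA7_10) w hw, walk_sound (gens_eq ▸ walkA7_11) w hw, walk_sound (gens_eq ▸ walkA7_12) w hw, walk_sound (gens_eq ▸ walkA7_13) w hw, walk_sound (gens_eq ▸ walkA7_14) w hw, walk_sound (gens_eq ▸ walkA7_15) w hw]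

theorem candA_at8 : ∀ w ∈ transA, CandAt eltA fixAH8 baseA1 (leviA.map Prod.snd) condA w := by
  intro w hw
  simp only [transA, List.mem_append] at hw
  rcases hw with ((((((((((((((hw | hw) | hw) | hw) | hw) | hw) | hw) | hw) | hw) | hw) | hw) | hw) | hw) | hw) | hw) | hw
  exacts [walk_sound (gens_eq ▸ walkA8_0) w hw, walk_sound (gens_eq ▸ walkA8_1) w hw, walk_sound (gens_eq ▸ walkA8_2) w hw, walk_sound (gens_eq ▸ walkA8_3) w hw, walk_sound (gens_eq ▸ walkA8_4) w hw, walk_sound (gens_eq ▸ walkA8_5) w hw, walk_sound (gens_eq ▸ walkA8_6) w hw, walk_sound (gens_eq ▸ walkA8_7) w hw, walk_sound (gens_eq ▸ walkA8_8) w hw, walk_sound (gens_eq ▸ walkA8_9) w hw, walk_sound (gens_eq ▸ walkA8_10) w hw, walk_sound (gens_eq ▸ walkA8_11) w hw, walk_sound (gens_eq ▸ walkA8_12) w hw, walk_sound (gens_eq ▸ walkA8_13) w hw, walk_sound (gens_eq ▸ walkA8_14) w hw, walk_sound (gens_eq ▸ walkA8_15) w hw]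

end Cfsg.Agent.D4Iso
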