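import Cfsg.Agent.Lib.D4Iso.CondDefs
import Cfsg.Agent.Lib.D4Iso.DataB

/-! Kernel checks for the B points. -/

set_option autoImplicit false
set_option maxRecDepth 100000
set_option Elab.async false

namespace Cfsg.Agent.D4Iso

theorem orbB_ok0 : orbB.okRange gensLit 0 64 = true := by decide +kernel

theorem orbB_fixd0 : fixedIn orbB eltB fixB 0 64 = true := by decide +kernel

theorem orbB_ok1 : orbB.okRange gensLit 64 128 = true := by decide +kernel

theorem orbB_fixd1 : fixedIn orbB eltB fixB 64 128 = true := by decide +kernel

theorem orbB_ok2 : orbB.okRange gensLit 128 192 = true := by decide +kernel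

theorem orbB_fixd2 : fixedIn orbB eltB fixB 128 192 = true := by decide +kernel

theorem orbB_ok3 : orbB.okRange gensLit 192 256 = true := by decide +kernel

theorem orbB_fixd3 : fixedIn orbB eltB fixB 192 256 = true := by decide +kernel

theorem orbB_ok4 : orbB.okRange gensLit 256 320 = true := by decide +kernel

theorem orbB_fixd4 : fixedIn orbB eltB fixB 256 320 = true := by decide +kernel

theorem orbB_ok5 : orbB.okRange gensLit 320 384 = true := by decide +kernel

theorem orbB_fixd5 : fixedIn orbB eltB fixB 320 384 = true := by decide +kernel

theorem orbB_ok6 : orbB.okRange gensLit 384 448 = true := by decide +kernel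

theorem orbB_fixd6 : fixedIn orbB eltB fixB 384 448 = true := by decide +kernel

end Cfsg.Agent.D4Iso
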