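import Cfsg.Agent.Lib.D4Iso.CondDefs
import Cfsg.Agent.Lib.D4Iso.DataB

/-! Kernel checks for the B points. -/

set_option autoImplicit false
set_option maxRecDepth 100000
set_option Elab.async false

namespace Cfsg.Agent.D4Iso

theorem orbB_ok7 : orbB.okRange gensLit 448 512 = true := by decide +kernel

theorem orbB_fixd7 : fixedIn orbB eltB fixB 448 512 = true := by decide +kernel

theorem orbB_ok8 : orbB.okRange gensLit 512 576 = true := by decide +kernel

theorem orbB_fixd8 : fixedIn orbB eltB fixB 512 576 = true := by decide +kernel

theorem orbB_ok9 : orbB.okRange gensLit 576 640 = true := by decide +kernel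

theorem orbB_fixd9 : fixedIn orbB eltB fixB 576 640 = true := by decide +kernel

theorem orbB_ok10 : orbB.okRange gensLit 640 704 = true := by decide +kernel

theorem orbB_fixd10 : fixedIn orbB eltB fixB 640 704 = true := by decide +kernel

theorem orbB_ok11 : orbB.okRange gensLit 704 768 = true := by decide +kernel

theorem orbB_fixd11 : fixedIn orbB eltB fixB 704 768 = true := by decide +kernel

theorem orbB_ok12 : orbB.okRange gensLit 768 819 = true := by decide +kernel

theorem orbB_fixd12 : fixedIn orbB eltB fixB 768 819 = true := by decide +kernel

end Cfsg.Agent.D4Iso
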