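import Cfsg.Agent.Lib.D4Iso.CondDefs
import Cfsg.Agent.Lib.D4Iso.Rep
import Cfsg.Agent.Lib.D4Iso.DataB

/-! Kernel checks for the B points. -/

set_option autoImplicit false
set_option maxRecDepth 100000
set_option Elab.async false

namespace Cfsg.Agent.D4Iso

theorem fixB_h0 : (matW fixBW0 == fixBH0) = true := by decide +kernel

theorem walkB0_0 : walk gensLit eltB fixBH0 baseB1 (leviB.map Prod.snd) condB transB_0 candB0_0 = true := by
  decide +kernel

theorem walkB0_1 : walk gensLit eltB fixBH0 baseB1 (leviB.map Prod.snd) condB transB_1 candB0_1 = true := by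
  decide +kernel

theorem walkB0_2 : walk gensLit eltB fixBH0 baseB1 (leviB.map Prod.snd) condB transB_2 candB0_2 = true := by
  decide +kernel

theorem walkB0_3 : walk gensLit eltB fixBH0 baseB1 (leviB.map Prod.snd) condB transB_3 candB0_3 = true := by
  decide +kernel

theorem fixB_h1 : (matW fixBW1 == fixBH1) = true := by decide +kernel

theorem walkB1_0 : walk gensLit eltB fixBH1 baseB1 (leviB.map Prod.snd) condB transB_0 candB1_0 = true := by
  decide +kernel

theorem walkB1_1 : walk gensLit eltB fixBH1 baseB1 (leviB.map Prod.snd) condB transB_1 candB1_1 = true := by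
  decide +kernel

theorem walkB1_2 : walk gensLit eltB fixBH1 baseB1 (leviB.map Prod.snd) condB transB_2 candB1_2 = true := by
  decide +kernel

theorem walkB1_3 : walk gensLit eltB fixBH1 baseB1 (leviB.map Prod.snd) condB transB_3 candB1_3 = true := by
  decide +kernel

theorem fixB_h2 : (matW fixBW2 == fixBH2) = true := by decide +kernel

theorem walkB2_0 : walk gensLit eltB fixBH2 baseB1 (leviB.map Prod.snd) condB transB_0 candB2_0 = true := by
  decide +kernel

theorem walkB2_1 : walk gensLit eltB fixBH2 baseB1 (leviB.map Prod.snd) condB transB_1 candB2_1 = true := by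
  decide +kernel

theorem walkB2_2 : walk gensLit eltB fixBH2 baseB1 (leviB.map Prod.snd) condB transB_2 candB2_2 = true := by
  decide +kernel

theorem walkB2_3 : walk gensLit eltB fixBH2 baseB1 (leviB.map Prod.snd) condB transB_3 candB2_3 = true := by
  decide +kernel

end Cfsg.Agent.D4Iso
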