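import Cfsg.Agent.Lib.D4Iso.CondDefs
import Cfsg.Agent.Lib.D4Iso.Rep
import Cfsg.Agent.Lib.D4Iso.DataB

/-! Kernel checks for the B points. -/

set_option autoImplicit false
set_option maxRecDepth 100000
set_option Elab.async false

namespace Cfsg.Agent.D4Iso

theorem fixB_h3 : (matW fixBW3 == fixBH3) = true := by decide +kernel

theorem walkB3_0 : walk gensLit eltB fixBH3 baseB1 (leviB.map Prod.snd) condB transB_0 candB3_0 = true := by
  decide +kernel

theorem walkB3_1 : walk gensLit eltB fixBH3 baseB1 (leviB.map Prod.snd) condB transB_1 candB3_1 = true := by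
  decide +kernel

theorem walkB3_2 : walk gensLit eltB fixBH3 baseB1 (leviB.map Prod.snd) condB transB_2 candB3_2 = true := by
  decide +kernel

theorem walkB3_3 : walk gensLit eltB fixBH3 baseB1 (leviB.map Prod.snd) condB transB_3 candB3_3 = true := by
  decide +kernel

theorem fixB_h4 : (matW fixBW4 == fixBH4) = true := by decide +kernel

theorem walkB4_0 : walk gensLit eltB fixBH4 baseB1 (leviB.map Prod.snd) condB transB_0 candB4_0 = true := by
  decide +kernel

theorem walkB4_1 : walk gensLit eltB fixBH4 baseB1 (leviB.map Prod.snd) condB transB_1 candB4_1 = true := by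
  decide +kernel

theorem walkB4_2 : walk gensLit eltB fixBH4 baseB1 (leviB.map Prod.snd) condB transB_2 candB4_2 = true := by
  decide +kernel

theorem walkB4_3 : walk gensLit eltB fixBH4 baseB1 (leviB.map Prod.snd) condB transB_3 candB4_3 = true := by
  decide +kernel

theorem fixB_h5 : (matW fixBW5 == fixBH5) = true := by decide +kernel

theorem walkB5_0 : walk gensLit eltB fixBH5 baseB1 (leviB.map Prod.snd) condB transB_0 candB5_0 = true := by
  decide +kernel

theorem walkB5_1 : walk gensLit eltB fixBH5 baseB1 (leviB.map Prod.snd) condB transB_1 candB5_1 = true := by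
  decide +kernel

theorem walkB5_2 : walk gensLit eltB fixBH5 baseB1 (leviB.map Prod.snd) condB transB_2 candB5_2 = true := by
  decide +kernel

theorem walkB5_3 : walk gensLit eltB fixBH5 baseB1 (leviB.map Prod.snd) condB transB_3 candB5_3 = true := by
  decide +kernel

end Cfsg.Agent.D4Iso
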