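import Cfsg.Agent.Lib.D4Iso.CondDefs
import Cfsg.Agent.Lib.D4Iso.Rep
import Cfsg.Agent.Lib.D4Iso.DataB

/-! Kernel checks for the B points. -/

set_option autoImplicit false
set_option maxRecDepth 100000
set_option Elab.async false

namespace Cfsg.Agent.D4Iso

theorem fixB_h6 : (matW fixBW6 == fixBH6) = true := by decide +kernel

theorem walkB6_0 : walk gensLit eltB fixBH6 baseB1 (leviB.map Prod.snd) condB transB_0 candB6_0 = true := by
  decide +kernel

theorem walkB6_1 : walk gensLit eltB fixBH6 baseB1 (leviB.map Prod.snd) condB transB_1 candB6_1 = true := by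
  decide +kernel

theorem walkB6_2 : walk gensLit eltB fixBH6 baseB1 (leviB.map Prod.snd) condB transB_2 candB6_2 = true := by
  decide +kernel

theorem walkB6_3 : walk gensLit eltB fixBH6 baseB1 (leviB.map Prod.snd) condB transB_3 candB6_3 = true := by
  decide +kernel

theorem fixB_h7 : (matW fixBW7 == fixBH7) = true := by decide +kernel

theorem walkB7_0 : walk gensLit eltB fixBH7 baseB1 (leviB.map Prod.snd) condB transB_0 candB7_0 = true := by
  decide +kernel

theorem walkB7_1 : walk gensLit eltB fixBH7 baseB1 (leviB.map Prod.snd) condB transB_1 candB7_1 = true := by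
  decide +kernel

theorem walkB7_2 : walk gensLit eltB fixBH7 baseB1 (leviB.map Prod.snd) condB transB_2 candB7_2 = true := by
  decide +kernel

theorem walkB7_3 : walk gensLit eltB fixBH7 baseB1 (leviB.map Prod.snd) condB transB_3 candB7_3 = true := by
  decide +kernel

theorem fixB_h8 : (matW fixBW8 == fixBH8) = true := by decide +kernel

theorem walkB8_0 : walk gensLit eltB fixBH8 baseB1 (leviB.map Prod.snd) condB transB_0 candB8_0 = true := by
  decide +kernel

theorem walkB8_1 : walk gensLit eltB fixBH8 baseB1 (leviB.map Prod.snd) condB transB_1 candB8_1 = true := by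
  decide +kernel

theorem walkB8_2 : walk gensLit eltB fixBH8 baseB1 (leviB.map Prod.snd) condB transB_2 candB8_2 = true := by
  decide +kernel

theorem walkB8_3 : walk gensLit eltB fixBH8 baseB1 (leviB.map Prod.snd) condB transB_3 candB8_3 = true := by
  decide +kernel

end Cfsg.Agent.D4Iso
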