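import Cfsg.Agent.Lib.D4Iso.Cover
import Cfsg.Agent.Lib.D4Iso.Conds
import Cfsg.Agent.Lib.D4Iso.CertBWalk0
import Cfsg.Agent.Lib.D4Iso.CertBWalk1
import Cfsg.Agent.Lib.D4Iso.CertBWalk2
import Cfsg.Agent.Lib.D4Iso.CertBOrb0
import Cfsg.Agent.Lib.D4Iso.CertBOrb1

/-! Kernel checks for the B points. -/

set_option autoImplicit false
set_option maxRecDepth 100000
set_option Elab.async false

namespace Cfsg.Agent.D4Iso

theorem transB_ok0 : transOK gensLit baseB0 baseB1 oppB transB_0 0 = true := by decide +kernel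

theorem transB_ok1 : transOK gensLit baseB0 baseB1 oppB transB_1 128 = true := by decide +kernel

theorem transB_ok2 : transOK gensLit baseB0 baseB1 oppB transB_2 256 = true := by decide +kernel

theorem transB_ok3 : transOK gensLit baseB0 baseB1 oppB transB_3 384 = true := by decide +kernel

theorem transB_ok : transOK genMats baseB0 baseB1 oppB transB 0 = true := by
  unfold transB
  exact (transOK_append (transOK_append (transOK_append (gens_eq ▸ transB_ok0) (gens_eq ▸ transB_ok1) (by decide +kernel)) (gens_eq ▸ transB_ok2) (by decide +kernel)) (gens_eq ▸ transB_ok3) (by decide +kernel))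

theorem frameB : FrameOK orbB baseB0 baseB1 oppB transB leviB where
  ok := okRange_all (G := gensLit) (by decide +kernel) [(0, 64), (64, 128), (128, 192), (192, 256), (256, 320), (320, 384), (384, 448), (448, 512), (512, 576), (576, 640), (640, 704), (704, 768), (768, 819)] (by decide +kernel) (by
    intro q hq
    simp only [List.mem_cons, List.not_mem_nil, or_false] at hq
    rcases hq with rfl | rfl | rfl | rfl | rfl | rfl | rfl | rfl | rfl | rfl | rfl | rfl | rfl
    exacts [orbB_ok0, orbB_ok1, orbB_ok2, orbB_ok3, orbB_ok4, orbB_ok5, orbB_ok6, orbB_ok7, orbB_ok8, orbB_ok9, orbB_ok10, orbB_ok11, orbB_ok12])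
  pos := by decide +kernel
  base := by decide +kernel
  bd1 := by decide +kernel
  trans := transB_ok
  words := by decide +kernel
  nodup := by decide +kernel
  fix := by decide +kernel
  count := by decide +kernel

theorem fixedB : ∀ i < orbB.n, fixedIn orbB eltB fixB i (i + 1) = true := fixedIn_all [(0, 64), (64, 128), (128, 192), (192, 256), (256, 320), (320, 384), (384, 448), (448, 512), (512, 576), (576, 640), (640, 704), (704, 768), (768, 819)] (by decide +kernel) (by
    intro q hq
    simp only [List.mem_cons, List.not_mem_nil, or_false] at hq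
    rcases hq with rfl | rfl | rfl | rfl | rfl | rfl | rfl | rfl | rfl | rfl | rfl | rfl | rfl
    exacts [orbB_fixd0, orbB_fixd1, orbB_fixd2, orbB_fixd3, orbB_fixd4, orbB_fixd5, orbB_fixd6, orbB_fixd7, orbB_fixd8, orbB_fixd9, orbB_fixd10, orbB_fixd11, orbB_fixd12])

theorem eltXB : matW eltBW = eltB ∧ fixOK baseB0 baseB1 [eltB] = true := by decide +kernel

theorem candB_at0 : ∀ w ∈ transB, CandAt eltB fixBH0 baseB1 (leviB.map Prod.snd) condB w := by
  intro w hw
  simp only [transB, List.mem_append] at hw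
  rcases hw with ((hw | hw) | hw) | hw
  exacts [walk_sound (gens_eq ▸ walkB0_0) w hw, walk_sound (gens_eq ▸ walkB0_1) w hw, walk_sound (gens_eq ▸ walkB0_2) w hw, walk_sound (gens_eq ▸ walkB0_3) w hw]

theorem candB_at1 : ∀ w ∈ transB, CandAt eltB fixBH1 baseB1 (leviB.map Prod.snd) condB w := by
  intro w hw
  simp only [transB, List.mem_append] at hw
  rcases hw with ((hw | hw) | hw) | hw
  exacts [walk_sound (gens_eq ▸ walkB1_0) w hw, walk_sound (gens_eq ▸ walkB1_1) w hw, walk_sound (gens_eq ▸ walkB1_2) w hw, walk_sound (gens_eq ▸ walkB1_3) w hw]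

theorem candB_at2 : ∀ w ∈ transB, CandAt eltB fixBH2 baseB1 (leviB.map Prod.snd) condB w := by
  intro w hw
  simp only [transB, List.mem_append] at hw
  rcases hw with ((hw | hw) | hw) | hw
  exacts [walk_sound (gens_eq ▸ walkB2_0) w hw, walk_sound (gens_eq ▸ walkB2_1) w hw, walk_sound (gens_eq ▸ walkB2_2) w hw, walk_sound (gens_eq ▸ walkB2_3) w hw]

theorem candB_at3 : ∀ w ∈ transB, CandAt eltB fixBH3 baseB1 (leviB.map Prod.snd) condB w := by
  intro w hw
  simp only [transB, List.mem_append] at hw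
  rcases hw with ((hw | hw) | hw) | hw
  exacts [walk_sound (gens_eq ▸ walkB3_0) w hw, walk_sound (gens_eq ▸ walkB3_1) w hw, walk_sound (gens_eq ▸ walkB3_2) w hw, walk_sound (gens_eq ▸ walkB3_3) w hw]

theorem candB_at4 : ∀ w ∈ transB, CandAt eltB fixBH4 baseB1 (leviB.map Prod.snd) condB w := by
  intro w hw
  simp only [transB, List.mem_append] at hw
  rcases hw with ((hw | hw) | hw) | hw
  exacts [walk_sound (gens_eq ▸ walkB4_0) w hw, walk_sound (gens_eq ▸ walkB4_1) w hw, walk_sound (gens_eq ▸ walkB4_2) w hw, walk_sound (gens_eq ▸ walkB4_3) w hw]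

theorem candB_at5 : ∀ w ∈ transB, CandAt eltB fixBH5 baseB1 (leviB.map Prod.snd) condB w := by
  intro w hw
  simp only [transB, List.mem_append] at hw
  rcases hw with ((hw | hw) | hw) | hw
  exacts [walk_sound (gens_eq ▸ walkB5_0) w hw, walk_sound (gens_eq ▸ walkB5_1) w hw, walk_sound (gens_eq ▸ walkB5_2) w hw, walk_sound (gens_eq ▸ walkB5_3) w hw]

theorem candB_at6 : ∀ w ∈ transB, CandAt eltB fixBH6 baseB1 (leviB.map Prod.snd) condB w := by
  intro w hw
  simp only [transB, List.mem_append] at hw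
  rcases hw with ((hw | hw) | hw) | hw
  exacts [walk_sound (gens_eq ▸ walkB6_0) w hw, walk_sound (gens_eq ▸ walkB6_1) w hw, walk_sound (gens_eq ▸ walkB6_2) w hw, walk_sound (gens_eq ▸ walkB6_3) w hw]

theorem candB_at7 : ∀ w ∈ transB, CandAt eltB fixBH7 baseB1 (leviB.map Prod.snd) condB w := by
  intro w hw
  simp only [transB, List.mem_append] at hw
  rcases hw with ((hw | hw) | hw) | hw
  exacts [walk_sound (gens_eq ▸ walkB7_0) w hw, walk_sound (gens_eq ▸ walkB7_1) w hw, walk_sound (gens_eq ▸ walkB7_2) w hw, walk_sound (gens_eq ▸ walkB7_3) w hw]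

theorem candB_at8 : ∀ w ∈ transB, CandAt eltB fixBH8 baseB1 (leviB.map Prod.snd) condB w := by
  intro w hw
  simp only [transB, List.mem_append] at hw
  rcases hw with ((hw | hw) | hw) | hw
  exacts [walk_sound (gens_eq ▸ walkB8_0) w hw, walk_sound (gens_eq ▸ walkB8_1) w hw, walk_sound (gens_eq ▸ walkB8_2) w hw, walk_sound (gens_eq ▸ walkB8_3) w hw]

end Cfsg.Agent.D4Iso
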