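import Cfsg.Agent.Lib.D4Iso.Cover
import Cfsg.Agent.Lib.D4Iso.Conds
import Cfsg.Agent.Lib.D4Iso.DataSyl

/-! Kernel checks for the Sylow subgroups and the witnesses. -/

set_option autoImplicit false
set_option maxRecDepth 100000
set_option Elab.async false

namespace Cfsg.Agent.D4Iso

/-- Classification of the elements of the Sylow 3-subgroup. -/
def cls3 : List (List ℕ × List ℕ) → List (Bool × List ℕ) → Bool
  | [], _ => true
  | _ :: _, [] => false
  | (_, M) :: ps, (isA, h) :: ws =>
    (M == idM || (!(pw M 3 == idM) && pw M 9 == idM && sumZero M 9) ||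
      (let H := h.foldr (fun a B => mm (gensLit.getD a idM) B) idM
       pw M 3 == idM && h.all (fun a => Nat.blt a 8) && mm M H == mm H (bif isA then eltA else eltB))) && cls3 ps ws

/-- Classification of the elements of the Sylow 7-subgroup. -/
def cls7 : List (List ℕ × List ℕ) → List (List ℕ × List (List ℕ)) → Bool
  | [], _ => true
  | _ :: _, [] => false
  | (_, M) :: ps, (b, cf) :: ws =>
    pw M 7 == idM && (M == idM || sumZero M 7 || (Nat.ble b.length 2 && sumSpan M 7 b cf)) && cls7 ps ws

theorem syl3_words : wordsOK gensLit syl3 = true := by decide +kernel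

theorem syl7_words : wordsOK gensLit syl7 = true := by decide +kernel

theorem syl13_words : wordsOK gensLit syl13 = true := by decide +kernel

theorem syl_nodup : nodupB (syl3.map Prod.snd) = true ∧ nodupB (syl7.map Prod.snd) = true ∧
    nodupB (syl13.map Prod.snd) = true := by decide +kernel

theorem syl3_closed : closedOK (syl3.map Prod.snd) (syl3Gm.map Prod.snd) = true := by decide +kernel

theorem syl3_gm : wordsOK gensLit syl3Gm = true := by decide +kernel

theorem syl3_dec : decOK (syl3Gm.map Prod.snd) (syl3.map Prod.snd) syl3Dec = true := by decide +kernel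

theorem syl7_closed : closedOK (syl7.map Prod.snd) (syl7Gm.map Prod.snd) = true := by decide +kernel

theorem syl7_gm : wordsOK gensLit syl7Gm = true := by decide +kernel

theorem syl7_dec : decOK (syl7Gm.map Prod.snd) (syl7.map Prod.snd) syl7Dec = true := by decide +kernel

theorem syl13_closed : closedOK (syl13.map Prod.snd) (syl13Gm.map Prod.snd) = true := by decide +kernel

theorem syl13_gm : wordsOK gensLit syl13Gm = true := by decide +kernel

theorem syl13_dec : decOK (syl13Gm.map Prod.snd) (syl13.map Prod.snd) syl13Dec = true := by decide +kernel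

theorem syl_one : (syl3.map Prod.snd).any (fun A => A == idM) = true ∧
    (syl7.map Prod.snd).any (fun A => A == idM) = true ∧
    (syl13.map Prod.snd).any (fun A => A == idM) = true := by decide +kernel

theorem syl_length : syl3.length = 3 ^ 4 ∧ syl7.length = 7 ^ 2 ∧ syl13.length = 13 ^ 1 := by decide +kernel

theorem syl3_cls : cls3 syl3 syl3Conj = true := by decide +kernel

theorem syl7_cls : cls7 syl7 syl7Span = true := by decide +kernel

theorem syl13_cls : syl13.all (fun e => pw e.2 13 == idM && (e.2 == idM || sumZero e.2 13)) = true := by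
  decide +kernel

theorem fixSpan_ok : Nat.ble fixSpanA.1.length 4 && sumSpan eltA 3 fixSpanA.1 fixSpanA.2 &&
    Nat.ble fixSpanB.1.length 2 && sumSpan eltB 3 fixSpanB.1 fixSpanB.2 && pw eltA 3 == idM && pw eltB 3 == idM &&
    !(eltA == idM) && !(eltB == idM) = true := by
  decide +kernel

/-- The matrix of a word has exactly the claimed order. -/
def ordOK (e : ℕ × List ℕ) : Bool :=
  let A := e.2.foldr (fun a B => mm (gensLit.getD a idM) B) idM
  pw A e.1 == idM && (List.range e.1).all (fun i => Nat.beq i 0 || !(pw A i == idM))

theorem orderWit_ok : orderWit.all ordOK = true ∧ orderWit.map Prod.fst = [2, 4, 6, 8, 12, 14, 28] := by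
  decide +kernel

end Cfsg.Agent.D4Iso
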