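import Cfsg.Agent.Lib.D4Iso.Code

/-!
# Boolean checks for orbits, stabilisers, centralisers and Sylow subgroups on bit codes
-/

set_option autoImplicit false

namespace Cfsg.Agent.D4Iso

/-- All multiples of a vector. -/
def mults (u : ℕ) : List ℕ := (List.range 8).map fun a => scal a u

/-- All combinations, by multiples. -/
def spanL : List ℕ → List ℕ
  | [] => [0]
  | u :: us => let m := mults u; (spanL us).flatMap fun r => m.map fun x => x ^^^ r

/-- Membership. -/
def memN (x : ℕ) (l : List ℕ) : Bool := l.any (Nat.beq x)

/-- Equality of spans, given by bases. -/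
def spanEq (p q : List ℕ) : Bool :=
  let a := spanL p; let b := spanL q; p.all (fun x => memN x b) && q.all (fun x => memN x a)

/-- Largest entry. -/
def maxN : List ℕ → ℕ
  | [] => 0
  | x :: xs => let r := maxN xs; bif Nat.ble r x then x else r

/-- An invariant of a set of codes. -/
def keyOf (cs : List ℕ) : ℕ :=
  maxN cs + 2 ^ 24 * (maxN (cs.map (· ^^^ 5592405)) + 2 ^ 24 * (maxN (cs.map (· ^^^ 11184810)) +
    2 ^ 24 * maxN (cs.map (· ^^^ 15790320))))

/-- The key of a span. -/
def key (p : List ℕ) : ℕ := keyOf (spanL p)

/-- Search trees from keys to indices. -/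
inductive KTree : Type where
  | leaf
  | node (l : KTree) (k i : ℕ) (r : KTree)

/-- Look up a key. -/
def KTree.find : KTree → ℕ → ℕ
  | .leaf, _ => 1000000
  | .node l k i r, x => bif Nat.beq x k then i else bif Nat.blt x k then l.find x else r.find x

/-- Apply a matrix to a basis. -/
def imgP (A : List ℕ) (p : List ℕ) : List ℕ := p.map (appR A)

/-- An orbit with a tree of keys and predecessors. -/
structure OrbitData where
  /-- the points, in chunks of 64 -/
  pts : List (List (List ℕ))
  /-- predecessor and generator of each point, in chunks of 64 -/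
  pred : List (List (ℕ × ℕ))
  /-- keys -/
  tree : KTree
  /-- number of points -/
  n : ℕ

/-- The point `i`. -/
def OrbitData.pt (D : OrbitData) (i : ℕ) : List ℕ := (D.pts.getD (i / 64) []).getD (i % 64) []

/-- The predecessor of the point `i`. -/
def OrbitData.prd (D : OrbitData) (i : ℕ) : ℕ × ℕ := (D.pred.getD (i / 64) []).getD (i % 64) (0, 0)

/-- The point `i` is new, is reached, and its images are points. -/
def OrbitData.ok (D : OrbitData) (gens : List (List ℕ)) (i : ℕ) : Bool :=
  let p := D.pt i
  let w := D.prd i
  Nat.beq (D.tree.find (key p)) i &&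
    (Nat.beq i 0 || (Nat.blt w.1 i && Nat.blt w.2 gens.length && spanEq (imgP (gens.getD w.2 []) (D.pt w.1)) p)) &&
    p.all (fun c => Nat.blt c (2 ^ 24)) &&
    gens.all (fun A => let q := imgP A p; let j := D.tree.find (key q); Nat.blt j D.n && spanEq q (D.pt j))

/-- A range of points. -/
def OrbitData.okRange (D : OrbitData) (gens : List (List ℕ)) (a b : ℕ) : Bool :=
  (List.range (b - a)).all fun i => D.ok gens (a + i)

/-- Apply a word to a code. -/
def appW (gens : List (List ℕ)) : List ℕ → ℕ → ℕ
  | [], c => c
  | a :: w, c => appR (gens.getD a idM) (appW gens w c)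

/-- Transversal words fixing the base point and moving the opposite point to new places. -/
def transOK (gens : List (List ℕ)) (p0 p1 : List ℕ) (tree : KTree) : List (List ℕ) → ℕ → Bool
  | [], _ => true
  | w :: ws, i => spanEq (p0.map (appW gens w)) p0 && Nat.beq (tree.find (key (p1.map (appW gens w)))) i &&
      transOK gens p0 p1 tree ws (i + 1)

/-- Distinct entries. -/
def nodupB : List (List ℕ) → Bool
  | [] => true
  | x :: xs => xs.all (fun y => !(x == y)) && nodupB xs

/-- Listed elements fix both points. -/
def fixOK (p0 p1 : List ℕ) (L : List (List ℕ)) : Bool :=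
  L.all fun A => spanEq (imgP A p0) p0 && spanEq (imgP A p1) p1

/-- Matrices of words. -/
def wordsOK (gens : List (List ℕ)) : List (List ℕ × List ℕ) → Bool
  | [] => true
  | (w, A) :: rest => w.all (fun a => Nat.blt a gens.length) && (w.foldr (fun a B => mm (gens.getD a idM) B) idM == A) &&
      wordsOK gens rest

/-- The fixed points of `X` among the points of an orbit are the listed ones. -/
def fixedIn (D : OrbitData) (X : List ℕ) (fidx : List ℕ) (a b : ℕ) : Bool :=
  (List.range (b - a)).all fun i => !spanEq (imgP X (D.pt (a + i))) (D.pt (a + i)) || memN (a + i) fidx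

/-- `c l` commutes with `X`. -/
def commV (c l X : List ℕ) : Bool :=
  (l.zip X).all fun q => appR c (appR l q.2) == appR X (appR c q.1)

/-- Every listed product commuting with `X` satisfies the condition. -/
def candOK (X : List ℕ) (L : List (List ℕ)) (cond : List ℕ → Bool) (c : List ℕ) : Bool :=
  L.all fun l => !commV c l X || cond (mm c l)

/-- Walk the transversal after `H`: where `X` fixes the moved opposite point, take the next candidate. -/
def walk (gens : List (List ℕ)) (X : List ℕ) (H : List ℕ) (p1 : List ℕ) (L : List (List ℕ))
    (cond : List ℕ → Bool) : List (List ℕ) → List (List ℕ) → Bool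
  | [], _ => true
  | w :: ws, cs =>
    let q := p1.map fun x => appR H (appW gens w x)
    bif spanEq (imgP X q) q then
      match cs with
      | [] => false
      | c :: cs' => (mm H (w.foldr (fun a B => mm (gens.getD a idM) B) idM) == c) && candOK X L cond c &&
          walk gens X H p1 L cond ws cs'
    else walk gens X H p1 L cond ws cs

/-- A finite list of matrices is closed under right multiplication by the given ones. -/
def closedOK (P : List (List ℕ)) (gs : List (List ℕ)) : Bool :=
  P.all fun A => gs.all fun B => let C := mm A B; P.any fun D => C == D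

/-- The sum of the first powers is zero. -/
def sumZero (A : List ℕ) (k : ℕ) : Bool := psum A k == zeroM

/-- The sum of the first powers has image in the span. -/
def sumSpan (A : List ℕ) (k : ℕ) (basis : List ℕ) (coef : List (List ℕ)) : Bool :=
  let S := psum A k
  Nat.beq coef.length 24 && basis.all (fun c => Nat.blt c (2 ^ 24)) &&
    (S.zip coef).all fun q => Nat.beq (comb basis q.2) q.1

end Cfsg.Agent.D4Iso
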