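import Mathlib

/-!
# Bit codes for `F₈⁸` and its semilinear algebra

A vector is a 24-bit number, coordinate `i` in the bits `3i, 3i+1, 3i+2` (coefficients of `1, α, α²`,
`α³ = α + 1`).  An additive map is the list of the images of the 24 unit codes.
-/

set_option autoImplicit false

namespace Cfsg.Agent.D4Iso

/-- Apply an additive map to a code. -/
def appR : List ℕ → ℕ → ℕ
  | [], _ => 0
  | m :: ms, c => (bif Nat.beq (c % 2) 1 then m else 0) ^^^ appR ms (c / 2)

/-- Composition. -/
def mm (A B : List ℕ) : List ℕ := B.map (appR A)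

/-- Pointwise sum. -/
def madd (A B : List ℕ) : List ℕ := List.zipWith (· ^^^ ·) A B

/-- The identity. -/
def idM : List ℕ := (List.range 24).map (2 ^ ·)

/-- The zero map. -/
def zeroM : List ℕ := List.replicate 24 0

/-- Multiplication by `α`. -/
def alM : List ℕ :=
  ((List.range 8).map fun i => [2 ^ (3 * i + 1), 2 ^ (3 * i + 2), 2 ^ (3 * i) ^^^ 2 ^ (3 * i + 1)]).flatten

/-- Powers. -/
def pw (A : List ℕ) : ℕ → List ℕ
  | 0 => idM
  | k + 1 => mm A (pw A k)

/-- The sum of the first powers. -/
def psum (A : List ℕ) : ℕ → List ℕ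
  | 0 => zeroM
  | k + 1 => madd idM (mm A (psum A k))

/-- A scalar times a vector. -/
def scal (t c : ℕ) : ℕ :=
  (bif Nat.beq (t % 2) 1 then c else 0) ^^^ (bif Nat.beq (t / 2 % 2) 1 then appR alM c else 0) ^^^
    (bif Nat.beq (t / 4 % 2) 1 then appR alM (appR alM c) else 0)

/-- Coordinate. -/
def coord (i c : ℕ) : ℕ := c / 2 ^ (3 * i) % 2 ^ 3

/-- All combinations of some vectors. -/
def combos : List ℕ → List ℕ
  | [] => [0]
  | u :: us => (combos us).flatMap fun r => (List.range 8).map fun a => scal a u ^^^ r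

/-- A combination with given coefficients. -/
def comb : List ℕ → List ℕ → ℕ
  | u :: us, a :: as => scal a u ^^^ comb us as
  | _, _ => 0

/-- Bounded entries, correct length. -/
def okM (A : List ℕ) : Bool := Nat.beq A.length 24 && A.all (fun m => Nat.blt m (2 ^ 24))

/-- The matrix of a root element with parameter code `t`: the frame vector `j` goes to
`v_j + [j = p] t v_w + [j = q] t v_u`. -/
def rootM (t w u p q : ℕ) : List ℕ :=
  ((List.range 8).map fun j =>
    let c := 2 ^ (3 * j) ^^^ (bif Nat.beq j p then scal t (2 ^ (3 * w)) else 0) ^^^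
      (bif Nat.beq j q then scal t (2 ^ (3 * u)) else 0)
    [c, appR alM c, appR alM (appR alM c)]).flatten

/-! ## Additivity -/

theorem beq01 : Nat.beq 0 1 = false := rfl

theorem beq11 : Nat.beq 1 1 = true := rfl

theorem appR_xor : ∀ (M : List ℕ) (a b : ℕ), appR M (a ^^^ b) = appR M a ^^^ appR M b
  | [], a, b => by simp [appR]
  | m :: ms, a, b => by
    simp only [appR, Nat.xor_div_two, appR_xor ms]
    rcases Nat.mod_two_eq_zero_or_one a with ha | ha <;> rcases Nat.mod_two_eq_zero_or_one b with hb | hb <;>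
      have h := Nat.xor_mod_two_pow (a := a) (b := b) (n := 1) <;>
      simp only [pow_one, ha, hb] at h <;>
      simp [ha, hb, h, beq01, beq11, Nat.xor_assoc, Nat.xor_left_comm]

theorem appR_zero : ∀ M : List ℕ, appR M 0 = 0
  | [] => rfl
  | m :: ms => by simp [appR, beq01, appR_zero ms]

theorem appR_bif (M : List ℕ) (b : Bool) (x : ℕ) :
    appR M (bif b then x else 0) = bif b then appR M x else 0 := by
  cases b <;> simp [appR_zero]

theorem appR_mm (A : List ℕ) : ∀ (B : List ℕ) (c : ℕ), appR (mm A B) c = appR A (appR B c)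
  | [], _ => (appR_zero A).symm
  | m :: ms, c => by
    rw [show mm A (m :: ms) = appR A m :: mm A ms from rfl, appR, appR, appR_mm A ms, appR_xor, appR_bif]

theorem appR_madd : ∀ (A B : List ℕ) (c : ℕ), A.length = B.length →
    appR (madd A B) c = appR A c ^^^ appR B c
  | [], [], c, _ => by simp [madd, appR]
  | a :: as, b :: bs, c, h => by
    have ih := appR_madd as bs (c / 2) (by simpa using h)
    simp only [madd, List.zipWith_cons_cons, appR] at ih ⊢
    rw [ih]
    cases Nat.beq (c % 2) 1 <;> simp [Nat.xor_assoc, Nat.xor_left_comm]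
  | [], b :: bs, _, h => by simp at h
  | a :: as, [], _, h => by simp at h

theorem appR_lt {n : ℕ} : ∀ {M : List ℕ}, (∀ m ∈ M, m < 2 ^ n) → ∀ c, appR M c < 2 ^ n
  | [], _, _ => by simp [appR]
  | m :: ms, h, c => by
    rw [appR]
    refine Nat.xor_lt_two_pow ?_ (appR_lt (fun x hx => h x (List.mem_cons_of_mem _ hx)) _)
    cases Nat.beq (c % 2) 1 <;> simp [h m List.mem_cons_self]

theorem appR_pow : ∀ (M : List ℕ) (j : ℕ), appR M (2 ^ j) = M.getD j 0
  | [], j => by simp [appR]
  | m :: ms, 0 => by simp [appR, appR_zero]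
  | m :: ms, j + 1 => by
    have h1 : 2 ^ (j + 1) % 2 = 0 := by simp [pow_succ]
    have h2 : 2 ^ (j + 1) / 2 = 2 ^ j := by simp [pow_succ]
    simp [appR, beq01, h1, h2, appR_pow ms j]

theorem okM_lt {A : List ℕ} (h : okM A = true) : ∀ m ∈ A, m < 2 ^ 24 := by
  simp only [okM, Bool.and_eq_true, List.all_eq_true, Nat.blt_eq] at h
  exact h.2

theorem coord_xor (i a b : ℕ) : coord i (a ^^^ b) = coord i a ^^^ coord i b := by
  simp only [coord, Nat.xor_div_two_pow, Nat.xor_mod_two_pow]

theorem coord_lt (i c : ℕ) : coord i c < 8 := Nat.mod_lt _ (by norm_num)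

/-- Two additive functions on codes agree once they agree on the unit codes. -/
theorem ext_add {V : Type*} [AddCommGroup V] : ∀ (n : ℕ) (f g : ℕ → V),
    (∀ a b, a < 2 ^ n → b < 2 ^ n → f (a ^^^ b) = f a + f b) →
    (∀ a b, a < 2 ^ n → b < 2 ^ n → g (a ^^^ b) = g a + g b) →
    (∀ j < n, f (2 ^ j) = g (2 ^ j)) → ∀ c < 2 ^ n, f c = g c
  | 0, f, g, hf, hg, _, c, hc => by
    have hc0 : c = 0 := by simpa using hc
    subst hc0
    have h1 := hf 0 0 (by simp) (by simp)
    have h2 := hg 0 0 (by simp) (by simp)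
    simp only [Nat.xor_self] at h1 h2
    rw [left_eq_add.1 h1, left_eq_add.1 h2]
  | n + 1, f, g, hf, hg, hb, c, hc => by
    have hlt : 2 ^ n < 2 ^ (n + 1) := Nat.pow_lt_pow_right (by norm_num) (by omega)
    have ih := ext_add n f g (fun a b ha hb => hf a b (ha.trans hlt) (hb.trans hlt))
      (fun a b ha hb => hg a b (ha.trans hlt) (hb.trans hlt)) (fun j hj => hb j (by omega))
    rcases lt_or_ge c (2 ^ n) with h | h
    · exact ih c h
    · have hs : c ^^^ 2 ^ n < 2 ^ n := by
        refine Nat.lt_of_testBit n ?_ (by simp) fun j hj => ?_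
        · rw [Nat.testBit_xor, Nat.testBit_two_pow_self]
          have : c.testBit n = true := by
            rw [Nat.testBit_eq_decide_div_mod_eq, decide_eq_true_iff]
            rw [show c / 2 ^ n = 1 from Nat.div_eq_of_lt_le (by omega) (by rw [pow_succ] at hc; omega)]
          simp [this]
        · rw [Nat.testBit_xor, Nat.testBit_lt_two_pow (hc.trans_le (Nat.pow_le_pow_right (by norm_num) hj))]
          simp [hj.ne]
      have e : c = 2 ^ n ^^^ (c ^^^ 2 ^ n) := by
        rw [Nat.xor_comm c, ← Nat.xor_assoc, Nat.xor_self, Nat.zero_xor]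
      rw [e, hf _ _ hlt (hs.trans hlt), hg _ _ hlt (hs.trans hlt), ih _ hs, hb n (by omega)]

end Cfsg.Agent.D4Iso
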