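import Cfsg.Agent.Lib.D4Iso.Frame

/-!
# Stabilisers, centralisers and Sylow subgroups from the checks
-/

set_option autoImplicit false
set_option maxRecDepth 8000
set_option maxHeartbeats 1000000

namespace Cfsg.Agent.D4Iso

open Cfsg.Agent.Chev

variable {K : Type*} [Field K] [Fintype K] {F : F8 K}

theorem card_Tw (F : F8 K) : Nat.card ↥(Tw K) = 211341312 := by
  have h := TwD4.card_twisted (F := K) (q := 2) Nat.prime_two.isPrimePow (by rw [F.card]; norm_num)
  rw [show Nat.card ↥(Tw K) = Nat.card ↥(TwD4.tw K 2) from rfl, h]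
  norm_num

theorem wordsOK_sound : ∀ {l : List (List ℕ × List ℕ)}, wordsOK genMats l = true → ∀ e ∈ l, GRep F (wordE F e.1) e.2
  | [], _, e, he => by simp at he
  | (w, A) :: rest, h, e, he => by
    simp only [wordsOK, Bool.and_eq_true, beq_iff_eq] at h
    rcases List.mem_cons.1 he with rfl | he
    · have := wordE_rep F w
      rwa [← foldr_matW w, h.1.2] at this
    · exact wordsOK_sound h.2 e he

theorem nodupB_sound : ∀ {l : List (List ℕ)}, nodupB l = true → l.Nodup
  | [], _ => List.nodup_nil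
  | x :: xs, h => by
    simp only [nodupB, Bool.and_eq_true, List.all_eq_true, Bool.not_eq_true', beq_eq_false_iff_ne, ne_eq] at h
    exact List.nodup_cons.2 ⟨fun hx => h.1 x hx rfl, nodupB_sound h.2⟩

theorem transOK_sound {p0 p1 : List ℕ} {tree : KTree} : ∀ {R : List (List ℕ)} {i : ℕ},
    transOK genMats p0 p1 tree R i = true → ∀ k, ∀ hk : k < R.length,
      spanEq (p0.map (appW genMats R[k])) p0 = true ∧ tree.find (key (p1.map (appW genMats R[k]))) = i + k
  | [], _, _, k, hk => by simp at hk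
  | w :: ws, i, h, k, hk => by
    simp only [transOK, Bool.and_eq_true, Nat.beq_eq] at h
    cases k with
    | zero => exact ⟨h.1.1, h.1.2⟩
    | succ k =>
      have := transOK_sound h.2 k (by simpa using hk)
      simp only [List.getElem_cons_succ]
      exact ⟨this.1, by rw [this.2]; omega⟩

theorem transOK_append {p0 p1 : List ℕ} {tree : KTree} : ∀ {R S : List (List ℕ)} {i j : ℕ},
    transOK genMats p0 p1 tree R i = true → transOK genMats p0 p1 tree S j = true → j = i + R.length →
      transOK genMats p0 p1 tree (R ++ S) i = true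
  | [], S, i, j, _, h, e => by simp at e; subst e; simpa using h
  | w :: ws, S, i, j, h, h', e => by
    simp only [transOK, Bool.and_eq_true, List.cons_append] at h ⊢
    exact ⟨h.1, transOK_append h.2 h' (by simp at e; omega)⟩

/-- The checks describing a stabiliser of two opposite points. -/
structure FrameOK (D : OrbitData) (p0 p1 : List ℕ) (T : KTree) (R : List (List ℕ)) (L : List (List ℕ × List ℕ)) :
    Prop where
  ok : ∀ i < D.n, D.ok genMats i = true
  pos : 0 < D.n
  base : D.pt 0 = p0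
  bd1 : p1.all (fun c => Nat.blt c (2 ^ 24)) = true
  trans : transOK genMats p0 p1 T R 0 = true
  words : wordsOK genMats L = true
  nodup : nodupB (L.map Prod.snd) = true
  fix : fixOK p0 p1 (L.map Prod.snd) = true
  count : D.n * (R.length * L.length) = 211341312

variable {D : OrbitData} {p0 p1 : List ℕ} {T : KTree} {R : List (List ℕ)} {L : List (List ℕ × List ℕ)}

theorem FrameOK.bd0' (h : FrameOK D p0 p1 T R L) : Bd p0 := h.base ▸ pt_bd D h.ok h.pos

theorem FrameOK.bd1' (h : FrameOK D p0 p1 T R L) : Bd p1 := by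
  have := h.bd1
  simp only [List.all_eq_true, Nat.blt_eq] at this
  exact this

theorem FrameOK.trans_fix (h : FrameOK D p0 p1 T R L) {w : List ℕ} (hw : w ∈ R) :
    wordE F w • pnt F p0 = pnt F p0 := by
  obtain ⟨k, hk, rfl⟩ := List.getElem_of_mem hw
  obtain ⟨h1, -⟩ := transOK_sound h.trans k hk
  rw [word_smul h.bd0']
  refine (spanEq_iff ?_ h.bd0').1 h1
  intro c hc
  obtain ⟨x, hx, rfl⟩ := List.mem_map.1 hc
  rw [appW_eq F _ _ (h.bd0' x hx)]
  exact appR_lt (okM_lt (wordE_rep F _).1) x

/-- The stabiliser of both points, and the transitivity of the stabiliser of the first. -/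
theorem FrameOK.key (h : FrameOK D p0 p1 T R L) :
    (∀ g : ↥(Tw K), g • pnt F p0 = pnt F p0 → ∃ w ∈ R, g • pnt F p1 = wordE F w • pnt F p1) ∧
    (∀ g : ↥(Tw K), g • pnt F p0 = pnt F p0 → g • pnt F p1 = pnt F p1 → ∃ e ∈ L, GRep F g e.2) := by
  classical
  let S0 : Subgroup ↥(Tw K) := MulAction.stabilizer ↥(Tw K) (pnt F p0)
  let S01 : Subgroup ↥S0 := MulAction.stabilizer ↥S0 (pnt F p1)
  have hG : Nat.card (MulAction.orbit ↥(Tw K) (pnt F p0)) * Nat.card ↥S0 = 211341312 := by
    rw [← card_Tw F, ← Nat.card_prod]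
    exact Nat.card_congr (MulAction.orbitProdStabilizerEquivGroup ↥(Tw K) (pnt F p0))
  have hn : Nat.card (MulAction.orbit ↥(Tw K) (pnt F p0)) = D.n := h.base ▸ orbit_card D h.ok h.pos
  rw [hn] at hG
  have hP : Nat.card (MulAction.orbit ↥S0 (pnt F p1)) * Nat.card ↥S01 = Nat.card ↥S0 := by
    rw [← Nat.card_prod]
    exact Nat.card_congr (MulAction.orbitProdStabilizerEquivGroup ↥S0 (pnt F p1))
  let fR : Fin R.length → MulAction.orbit ↥S0 (pnt F p1) := fun k =>
    ⟨wordE F R[k] • pnt F p1, ⟨⟨wordE F R[k], MulAction.mem_stabilizer_iff.2 (h.trans_fix (List.getElem_mem _))⟩, rfl⟩⟩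
  have hfR : Function.Injective fR := by
    intro a b e
    have e' : wordE F R[a] • pnt F p1 = wordE F R[b] • pnt F p1 := congrArg Subtype.val e
    rw [word_smul h.bd1', word_smul h.bd1'] at e'
    have hb : ∀ w : List ℕ, Bd (p1.map (appW genMats w)) := by
      intro w c hc
      obtain ⟨x, hx, rfl⟩ := List.mem_map.1 hc
      rw [appW_eq F _ _ (h.bd1' x hx)]
      exact appR_lt (okM_lt (wordE_rep F _).1) x
    have ha := (transOK_sound h.trans a.1 a.2).2
    have hb' := (transOK_sound h.trans b.1 b.2).2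
    have hk := key_congr (F := F) (hb _) (hb _) e'
    apply Fin.ext
    simp only [Fin.getElem_fin] at hk
    rw [hk, hb'] at ha
    omega
  have hL : ∀ e ∈ L, wordE F e.1 • pnt F p0 = pnt F p0 ∧ wordE F e.1 • pnt F p1 = pnt F p1 := by
    intro e he
    have hr := wordsOK_sound (F := F) h.words e he
    have := h.fix
    simp only [fixOK, List.all_eq_true, Bool.and_eq_true] at this
    obtain ⟨h0, h1⟩ := this e.2 (List.mem_map.2 ⟨e, he, rfl⟩)
    constructor
    · rw [smul_pnt hr h.bd0']; exact (spanEq_iff (imgP_bd hr _) h.bd0').1 h0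
    · rw [smul_pnt hr h.bd1']; exact (spanEq_iff (imgP_bd hr _) h.bd1').1 h1
  let fL : Fin L.length → ↥S01 := fun k =>
    ⟨⟨wordE F L[k].1, MulAction.mem_stabilizer_iff.2 (hL _ (List.getElem_mem _)).1⟩,
      MulAction.mem_stabilizer_iff.2 (hL _ (List.getElem_mem _)).2⟩
  have hfL : Function.Injective fL := by
    intro a b e
    have e' : wordE F L[a].1 = wordE F L[b].1 := congrArg (fun x : ↥S01 => (x.1.1 : ↥(Tw K))) e
    have ha := wordsOK_sound (F := F) h.words L[a] (List.getElem_mem _)
    have hb := wordsOK_sound (F := F) h.words L[b] (List.getElem_mem _)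
    rw [e'] at ha
    have hAB := GRep.eq ha hb
    apply Fin.ext
    have := ((nodupB_sound h.nodup).getElem_inj_iff (i := a.1) (j := b.1) (hi := by simp) (hj := by simp)).1
      (by simpa using hAB)
    exact this
  haveI : Finite (MulAction.orbit ↥S0 (pnt F p1)) := Finite.of_surjective
    (fun g : ↥S0 => (⟨g • pnt F p1, g, rfl⟩ : MulAction.orbit ↥S0 (pnt F p1))) (by rintro ⟨x, g, rfl⟩; exact ⟨g, rfl⟩)
  have h1 := Nat.card_le_card_of_injective fR hfR
  have h2 := Nat.card_le_card_of_injective fL hfL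
  rw [Nat.card_fin] at h1 h2
  have hpos : 0 < D.n := h.pos
  have hS0 : Nat.card ↥S0 = R.length * L.length := Nat.eq_of_mul_eq_mul_left hpos (hG.trans h.count.symm)
  rw [hS0] at hP
  have hSpos : 0 < Nat.card ↥S01 := Nat.card_pos
  have hOpos : 0 < Nat.card (MulAction.orbit ↥S0 (pnt F p1)) := by
    haveI : Nonempty (MulAction.orbit ↥S0 (pnt F p1)) := ⟨⟨_, MulAction.mem_orbit_self _⟩⟩
    exact Nat.card_pos
  have hOeq : Nat.card (MulAction.orbit ↥S0 (pnt F p1)) = R.length := by
    refine le_antisymm ?_ h1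
    by_contra hlt
    push Not at hlt
    have := Nat.mul_lt_mul_of_lt_of_le hlt h2 hSpos
    omega
  have hSeq : Nat.card ↥S01 = L.length := by
    refine le_antisymm ?_ h2
    by_contra hlt
    push Not at hlt
    rw [hOeq] at hP
    have := Nat.mul_lt_mul_of_pos_left hlt (by omega : 0 < R.length)
    omega
  have hRb := (Nat.bijective_iff_injective_and_card fR).2 ⟨hfR, by rw [hOeq, Nat.card_fin]⟩
  have hLb := (Nat.bijective_iff_injective_and_card fL).2 ⟨hfL, by rw [hSeq, Nat.card_fin]⟩
  refine ⟨fun g hg => ?_, fun g h0 h1 => ?_⟩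
  · obtain ⟨k, hk⟩ := hRb.2 ⟨g • pnt F p1, ⟨⟨g, MulAction.mem_stabilizer_iff.2 hg⟩, rfl⟩⟩
    exact ⟨_, List.getElem_mem (l := R) k.2, (congrArg Subtype.val hk).symm⟩
  · have hm0 : g ∈ S0 := MulAction.mem_stabilizer_iff.2 h0
    have hm1 : (⟨g, hm0⟩ : ↥S0) ∈ S01 := by
      rw [MulAction.mem_stabilizer_iff, Subgroup.smul_def]
      exact h1
    obtain ⟨k, hk⟩ := hLb.2 ⟨⟨g, hm0⟩, hm1⟩
    refine ⟨L[k], List.getElem_mem _, ?_⟩
    have hrep := wordsOK_sound (F := F) h.words L[k] (List.getElem_mem _)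
    have hk' := congrArg Subtype.val (congrArg Subtype.val hk)
    simp only [fL] at hk'
    rw [← hk']
    exact hrep

/-- A transversal entry moved by `H` is either moved by `X` or has a good candidate. -/
def CandAt (X H p1 : List ℕ) (L : List (List ℕ)) (cond : List ℕ → Bool) (w : List ℕ) : Prop :=
  spanEq (imgP X (p1.map fun x => appR H (appW genMats w x))) (p1.map fun x => appR H (appW genMats w x)) = true →
    candOK X L cond (mm H (matW w)) = true

theorem walk_sound {X H : List ℕ} {L : List (List ℕ)} {cond : List ℕ → Bool} :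
    ∀ {ws cs : List (List ℕ)}, walk genMats X H p1 L cond ws cs = true → ∀ w ∈ ws, CandAt X H p1 L cond w
  | [], _, _, w, hw => by simp at hw
  | a :: ws, cs, h, w, hw => by
    simp only [walk] at h
    cases hb : spanEq (imgP X (p1.map fun x => appR H (appW genMats a x)))
        (p1.map fun x => appR H (appW genMats a x)) with
    | false =>
      simp only [hb, cond_false] at h
      rcases List.mem_cons.1 hw with rfl | hw
      · intro e; rw [hb] at e; exact absurd e (by simp)
      · exact walk_sound h w hw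
    | true =>
      simp only [hb, cond_true] at h
      cases cs with
      | nil => simp at h
      | cons c cs' =>
        simp only [Bool.and_eq_true, beq_iff_eq] at h
        rcases List.mem_cons.1 hw with rfl | hw
        · intro _; rw [← foldr_matW, h.1.1]; exact h.1.2
        · exact walk_sound h.2 w hw

theorem commV_of_eq {c l X : List ℕ} (h : mm (mm c l) X = mm X (mm c l)) : commV c l X = true := by
  simp only [commV, List.all_eq_true, beq_iff_eq]
  intro q hq
  obtain ⟨j, hj, rfl⟩ := List.getElem_of_mem hq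
  have hjl : j < l.length := by simp at hj; omega
  have hjX : j < X.length := by simp at hj; omega
  have e1 : (mm (mm c l) X)[j]'(by simpa [mm] using hjX) = (mm X (mm c l))[j]'(by simpa [mm] using hjl) := by
    simp [h]
  simp only [mm, List.getElem_map] at e1
  rw [List.getElem_zip, ← appR_mm]
  exact e1

/-- The centraliser of an element fixing both points. -/
theorem centralizer_cover (h : FrameOK D p0 p1 T R L) {x : ↥(Tw K)} {X : List ℕ} (hX : GRep F x X)
    (hXfix : fixOK p0 p1 [X] = true) (fidx : List ℕ) (hfix : ∀ i < D.n, fixedIn D X fidx i (i + 1) = true)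
    (cond : List ℕ → Bool)
    (hcand : ∀ i ∈ fidx, ∃ hw H, matW hw = H ∧ spanEq (imgP H p0) (D.pt i) = true ∧
      ∀ w ∈ R, CandAt X H p1 (L.map Prod.snd) cond w) :
    ∀ g : ↥(Tw K), g * x = x * g → ∃ A, GRep F g A ∧ cond A = true := by
  intro g hgx
  simp only [fixOK, List.all_eq_true, List.mem_singleton, forall_eq, Bool.and_eq_true] at hXfix
  have hx0 : x • pnt F p0 = pnt F p0 := by
    rw [smul_pnt hX h.bd0']; exact (spanEq_iff (imgP_bd hX _) h.bd0').1 hXfix.1
  have hx1 : x • pnt F p1 = pnt F p1 := by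
    rw [smul_pnt hX h.bd1']; exact (spanEq_iff (imgP_bd hX _) h.bd1').1 hXfix.2
  have horb : g • pnt F p0 ∈ {y | ∃ i < D.n, y = pnt F (D.pt i)} := by
    rw [← orbit_eq D h.ok h.pos, h.base]; exact ⟨g, rfl⟩
  obtain ⟨i, hi, hgi⟩ := horb
  have hxi : x • pnt F (D.pt i) = pnt F (D.pt i) := by
    rw [← hgi, ← mul_smul, ← hgx, mul_smul, hx0]
  have hfi := hfix i hi
  simp only [fixedIn, Nat.add_sub_cancel_left, List.range_one, List.all_cons, List.all_nil, add_zero,
    Bool.and_true, Bool.or_eq_true] at hfi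
  have hbi := pt_bd D h.ok hi
  rw [smul_pnt hX hbi] at hxi
  rw [(spanEq_iff (imgP_bd hX _) hbi).2 hxi] at hfi
  have hmem : i ∈ fidx := memN_iff.1 (by simpa using hfi)
  obtain ⟨hw, H, hH, hHi, hcd⟩ := hcand i hmem
  have hHrep : GRep F (wordE F hw) H := hH ▸ wordE_rep F hw
  have hH0 : wordE F hw • pnt F p0 = g • pnt F p0 := by
    rw [hgi, smul_pnt hHrep h.bd0']; exact (spanEq_iff (imgP_bd hHrep _) hbi).1 hHi
  obtain ⟨hk1, hk2⟩ := h.key (F := F)
  have hg' : ((wordE F hw)⁻¹ * g) • pnt F p0 = pnt F p0 := by rw [mul_smul, ← hH0, inv_smul_smul]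
  obtain ⟨r, hr, hr1⟩ := hk1 _ hg'
  have hr0 := h.trans_fix (F := F) hr
  obtain ⟨e, he, hle⟩ := hk2 ((wordE F r)⁻¹ * ((wordE F hw)⁻¹ * g))
    (by rw [mul_smul, hg', inv_smul_eq_iff, hr0]) (by rw [mul_smul, hr1, inv_smul_smul])
  have hg : g = (wordE F hw * wordE F r) * ((wordE F r)⁻¹ * ((wordE F hw)⁻¹ * g)) := by group
  have hC : GRep F (wordE F hw * wordE F r) (mm H (matW r)) := hHrep.mul (wordE_rep F r)
  have hgA : GRep F g (mm (mm H (matW r)) e.2) := hg ▸ hC.mul hle
  refine ⟨_, hgA, ?_⟩
  have hq : (p1.map fun y => appR H (appW genMats r y)) = imgP (mm H (matW r)) p1 := by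
    refine List.map_congr_left fun y hy => ?_
    rw [appW_eq F r y (h.bd1' y hy), appR_mm]
  have hc := hcd r hr (by
    rw [hq]
    refine (spanEq_iff (F := F) (imgP_bd hX _) (imgP_bd hC _)).2 ?_
    show pnt F _ = pnt F _
    rw [← smul_pnt hX (imgP_bd hC _), ← smul_pnt hC h.bd1']
    have e1 : (wordE F hw * wordE F r) • pnt F p1 = g • pnt F p1 := by
      rw [mul_smul, ← hr1, ← mul_smul, mul_inv_cancel_left]
    rw [e1, ← mul_smul, ← hgx, mul_smul, hx1])
  simp only [candOK, List.all_eq_true, List.mem_map, forall_exists_index, and_imp, Bool.or_eq_true] at hc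
  rcases hc e.2 e he rfl with h' | h'
  · rw [commV_of_eq] at h'
    · exact absurd h' (by simp)
    · exact GRep.eq (hgA.mul hX) (hgx ▸ hX.mul hgA)
  · exact h'

/-- A product of listed matrices. -/
def prodM (gm : List (List ℕ)) (is : List ℕ) : List ℕ := is.foldr (fun i B => mm (gm.getD i idM) B) idM

/-- Every listed matrix is the claimed product of generator matrices. -/
def decOK (gm : List (List ℕ)) : List (List ℕ) → List (List ℕ) → Bool
  | [], _ => true
  | _ :: _, [] => false
  | M :: Ms, d :: ds => d.all (fun i => Nat.blt i gm.length) && (prodM gm d == M) && decOK gm Ms ds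

theorem decOK_sound {gm : List (List ℕ)} : ∀ {Ms ds : List (List ℕ)}, decOK gm Ms ds = true →
    ∀ M ∈ Ms, ∃ d : List ℕ, (∀ i ∈ d, i < gm.length) ∧ prodM gm d = M
  | [], _, _, M, hM => by simp at hM
  | A :: Ms, [], h, M, hM => by simp [decOK] at h
  | A :: Ms, d :: ds, h, M, hM => by
    simp only [decOK, Bool.and_eq_true, beq_iff_eq, List.all_eq_true, Nat.blt_eq] at h
    rcases List.mem_cons.1 hM with rfl | hM
    · exact ⟨d, h.1.1, h.1.2⟩
    · exact decOK_sound h.2 M hM

/-- Every element of prime-power order is conjugate into a listed Sylow subgroup. -/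
theorem sylow_cover {p k : ℕ} [Fact p.Prime] (P : List (List ℕ × List ℕ)) (hw : wordsOK genMats P = true)
    (gs : List (List ℕ × List ℕ)) (hgs : wordsOK genMats gs = true) (ds : List (List ℕ))
    (hds : decOK (gs.map Prod.snd) (P.map Prod.snd) ds = true)
    (hnd : nodupB (P.map Prod.snd) = true) (hcl : closedOK (P.map Prod.snd) (gs.map Prod.snd) = true)
    (hone : (P.map Prod.snd).any (fun A => A == idM) = true) (hlen : P.length = p ^ k)
    (hk : ¬ p ^ (k + 1) ∣ 211341312) (g : ↥(Tw K)) (hg : ∃ a, orderOf g = p ^ a) :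
    ∃ (h : ↥(Tw K)), ∃ e ∈ P, GRep F (h * g * h⁻¹) e.2 := by
  classical
  haveI : Finite ↥(Tw K) := Nat.finite_of_card_ne_zero (by rw [card_Tw F]; norm_num)
  simp only [List.any_eq_true, beq_iff_eq] at hone
  simp only [closedOK, List.all_eq_true, List.any_eq_true, beq_iff_eq] at hcl
  let S : Submonoid ↥(Tw K) :=
    { carrier := {x | ∃ e ∈ P, GRep F x e.2}
      one_mem' := by
        obtain ⟨A, hA, rfl⟩ := hone
        obtain ⟨e, he, hee⟩ := List.mem_map.1 hA
        exact ⟨e, he, hee ▸ grep_one⟩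
      mul_mem' := by
        rintro a b ⟨ea, hea, ha⟩ ⟨eb, heb, hb⟩
        obtain ⟨d, hd, hde⟩ := decOK_sound hds eb.2 (List.mem_map.2 ⟨eb, heb, rfl⟩)
        have key : ∀ d : List ℕ, (∀ i ∈ d, i < (gs.map Prod.snd).length) → ∀ (x : ↥(Tw K)),
            (∃ e ∈ P, GRep F x e.2) → ∃ y, GRep F y (prodM (gs.map Prod.snd) d) ∧ ∃ e ∈ P, GRep F (x * y) e.2 := by
          intro d
          induction d with
          | nil => exact fun _ x hx => ⟨1, grep_one, by rwa [mul_one]⟩
          | cons i d ih =>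
            intro hi x hx
            obtain ⟨e, he, hxe⟩ := hx
            have hil : i < gs.length := by simpa using hi i List.mem_cons_self
            have hgi := wordsOK_sound (F := F) hgs gs[i] (List.getElem_mem _)
            have hget : (gs.map Prod.snd).getD i idM = gs[i].2 := by
              rw [List.getD_eq_getElem _ _ (by simpa using hil), List.getElem_map]
            obtain ⟨C, hC, hCe⟩ := hcl e.2 (List.mem_map.2 ⟨e, he, rfl⟩) gs[i].2
              (List.mem_map.2 ⟨gs[i], List.getElem_mem _, rfl⟩)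
            obtain ⟨e', he', rfl⟩ := List.mem_map.1 hC
            obtain ⟨y, hy, hmem⟩ := ih (fun j hj => hi j (List.mem_cons_of_mem _ hj)) (x * wordE F gs[i].1)
              ⟨e', he', hCe ▸ hxe.mul hgi⟩
            refine ⟨wordE F gs[i].1 * y, ?_, by rwa [← mul_assoc]⟩
            show GRep F _ (mm ((gs.map Prod.snd).getD i idM) (prodM (gs.map Prod.snd) d))
            rw [hget]
            exact hgi.mul hy
        obtain ⟨y, hy, hmem⟩ := key d hd a ⟨ea, hea, ha⟩
        rw [hde] at hy
        rwa [GRep.ext hb hy] }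
  let H : Subgroup ↥(Tw K) :=
    { S with
      inv_mem' := fun {x} hx => by
        have : x⁻¹ = x ^ (orderOf x - 1) := inv_eq_of_mul_eq_one_right (by
          rw [← pow_succ', Nat.sub_add_cancel (isOfFinOrder_of_finite _).orderOf_pos, pow_orderOf_eq_one])
        show x⁻¹ ∈ S
        rw [this]
        exact S.pow_mem hx _ }
  have hcard : Nat.card ↥H = p ^ k := by
    rw [← hlen, ← Nat.card_fin P.length]
    refine (Nat.card_eq_of_bijective (fun i : Fin P.length => (⟨wordE F P[i].1, P[i], List.getElem_mem _,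
      wordsOK_sound hw P[i] (List.getElem_mem _)⟩ : ↥H)) ⟨?_, ?_⟩).symm
    · intro a b e
      have e' : wordE F P[a].1 = wordE F P[b].1 := congrArg Subtype.val e
      have ha := wordsOK_sound (F := F) hw P[a] (List.getElem_mem _)
      have hb := wordsOK_sound (F := F) hw P[b] (List.getElem_mem _)
      rw [e'] at ha
      have hAB := GRep.eq ha hb
      apply Fin.ext
      exact ((nodupB_sound hnd).getElem_inj_iff (i := a.1) (j := b.1) (hi := by simp) (hj := by simp)).1
        (by simpa using hAB)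
    · rintro ⟨x, e, he, hx⟩
      obtain ⟨i, hi, rfl⟩ := List.getElem_of_mem he
      exact ⟨⟨i, hi⟩, Subtype.ext (GRep.ext (wordsOK_sound hw _ (List.getElem_mem _)) hx)⟩
  obtain ⟨a, ha⟩ := hg
  have hgp : IsPGroup p ↥(Subgroup.zpowers g) := IsPGroup.of_card (by rw [Nat.card_zpowers, ha])
  obtain ⟨Q, hQ⟩ := hgp.exists_le_sylow
  have hfac : (Nat.card ↥(Tw K)).factorization p = k := by
    rw [card_Tw F]
    have hd : p ^ k ∣ 211341312 := by rw [← card_Tw F, ← hcard]; exact Subgroup.card_subgroup_dvd_card H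
    have hp : p.Prime := Fact.out
    refine le_antisymm ?_ ((hp.pow_dvd_iff_le_factorization (by norm_num)).1 hd)
    by_contra hlt
    exact hk ((hp.pow_dvd_iff_le_factorization (by norm_num)).2 (by omega))
  let P0 : Sylow p ↥(Tw K) := Sylow.ofCard H (by rw [hfac, hcard])
  obtain ⟨c, hc⟩ := MulAction.exists_smul_eq ↥(Tw K) Q P0
  refine ⟨c, ?_⟩
  have : c * g * c⁻¹ ∈ (P0 : Subgroup ↥(Tw K)) := by
    rw [← hc, Sylow.coe_subgroup_smul]
    exact Subgroup.smul_mem_pointwise_smul _ (MulAut.conj c) _ (hQ (Subgroup.mem_zpowers g))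
  exact this

end Cfsg.Agent.D4Iso
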