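import Cfsg.Agent.Lib.D4Iso.Main
import Cfsg.Agent.Lib.D4Iso.CertSyl
import Cfsg.Agent.Lib.D4Iso.CertAFrame
import Cfsg.Agent.Lib.D4Iso.CertBFrame

/-!
# The facts about `³D₄(2)` on the natural module, from the kernel checks
-/

set_option autoImplicit false
set_option maxRecDepth 100000
set_option Elab.async false

namespace Cfsg.Agent.D4Iso

open Cfsg.Agent.Chev

theorem cls3_sound : ∀ {P : List (List ℕ × List ℕ)} {ws : List (Bool × List ℕ)}, cls3 P ws = true → ∀ e ∈ P,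
    e.2 = idM ∨ (pw e.2 3 ≠ idM ∧ pw e.2 9 = idM ∧ sumZero e.2 9 = true) ∨
      ∃ (isA : Bool) (h : List ℕ), pw e.2 3 = idM ∧
        mm e.2 (matW h) = mm (matW h) (bif isA then eltA else eltB)
  | [], _, _, e, he => by simp at he
  | q :: ps, [], h, e, he => by simp [cls3] at h
  | (w, M) :: ps, (isA, hd) :: ws, h, e, he => by
    simp only [cls3, Bool.and_eq_true, Bool.or_eq_true, beq_iff_eq, Bool.not_eq_true', beq_eq_false_iff_ne] at h
    rcases List.mem_cons.1 he with rfl | he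
    · rcases h.1 with (h1 | h1) | h1
      · exact Or.inl h1
      · exact Or.inr (Or.inl ⟨h1.1.1, h1.1.2, h1.2⟩)
      · refine Or.inr (Or.inr ⟨isA, hd, h1.1.1, ?_⟩)
        have h2 := h1.2
        rw [gens_eq, foldr_matW] at h2
        exact h2
    · exact cls3_sound h.2 e he

theorem cls7_sound : ∀ {P : List (List ℕ × List ℕ)} {ws : List (List ℕ × List (List ℕ))}, cls7 P ws = true →
    ∀ e ∈ P, pw e.2 7 = idM ∧ (e.2 = idM ∨ sumZero e.2 7 = true ∨
      ∃ (b : List ℕ) (cf : List (List ℕ)), b.length ≤ 2 ∧ sumSpan e.2 7 b cf = true)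
  | [], _, _, e, he => by simp at he
  | q :: ps, [], h, e, he => by simp [cls7] at h
  | (w, M) :: ps, (b, cf) :: ws, h, e, he => by
    simp only [cls7, Bool.and_eq_true, Bool.or_eq_true, beq_iff_eq, Nat.ble_eq] at h
    rcases List.mem_cons.1 he with rfl | he
    · refine ⟨h.1.1, ?_⟩
      rcases h.1.2 with (h1 | h1) | h1
      · exact Or.inl h1
      · exact Or.inr (Or.inl h1)
      · exact Or.inr (Or.inr ⟨b, cf, h1.1, h1.2⟩)
    · exact cls7_sound h.2 e he

variable {K : Type*} [Field K] [Fintype K] {F : F8 K}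

theorem pw_eq_id_iff {g : ↥(Tw K)} {A : List ℕ} (hA : GRep F g A) {k : ℕ} : pw A k = idM ↔ g ^ k = 1 := by
  constructor
  · intro h
    exact GRep.ext (h ▸ hA.pow k) grep_one
  · intro h
    exact GRep.eq (h ▸ hA.pow k) grep_one

theorem conj_pow_eq_one {g h : ↥(Tw K)} {k : ℕ} : (h * g * h⁻¹) ^ k = 1 ↔ g ^ k = 1 := by
  rw [conj_pow]
  exact conj_eq_one_iff

theorem wordE_elt (isA : Bool) : GRep F (wordE F (bif isA then eltAW else eltBW)) (bif isA then eltA else eltB) := by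
  cases isA
  · exact eltXB.1 ▸ wordE_rep F eltBW
  · exact eltXA.1 ▸ wordE_rep F eltAW

theorem fixd_elt_le : Module.finrank K (fixd F (wordE F eltAW)) ≤ 4 ∧
    Module.finrank K (fixd F (wordE F eltBW)) ≤ 2 := by
  have h := fixSpan_ok
  simp only [Bool.and_eq_true, Nat.ble_eq] at h
  obtain ⟨⟨⟨⟨⟨⟨⟨hA, hA'⟩, hB⟩, hB'⟩, -⟩, -⟩, -⟩, -⟩ := h
  exact ⟨(fixd_le_of_sumSpan (wordE_elt true) (by decide) hA').trans hA,
    (fixd_le_of_sumSpan (wordE_elt false) (by decide) hB').trans hB⟩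

/-- Elements of order three are conjugate to one of two. -/
theorem conj_three (g : ↥(Tw K)) (hg : orderOf g = 3) :
    ∃ (isA : Bool) (k : ↥(Tw K)), k * g * k⁻¹ = wordE F (bif isA then eltAW else eltBW) := by
  haveI : Fact (Nat.Prime 3) := ⟨Nat.prime_three⟩
  obtain ⟨h, e, he, hr⟩ := sylow_cover (F := F) (p := 3) (k := 4) syl3 (gens_eq ▸ syl3_words) syl3Gm
    (gens_eq ▸ syl3_gm) syl3Dec syl3_dec syl_nodup.1 syl3_closed syl_one.1 syl_length.1 (by norm_num) g
    ⟨1, by rw [hg, pow_one]⟩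
  have hg3 : g ^ 3 = 1 := hg ▸ pow_orderOf_eq_one g
  rcases cls3_sound syl3_cls e he with h1 | ⟨h1, -, -⟩ | ⟨isA, w, -, h2⟩
  · exfalso
    have : g = 1 := conj_eq_one_iff.1 (GRep.ext (h1 ▸ hr) grep_one)
    rw [this, orderOf_one] at hg
    norm_num at hg
  · exact absurd ((pw_eq_id_iff hr).2 (conj_pow_eq_one.2 hg3)) h1
  · refine ⟨isA, (wordE F w)⁻¹ * h, ?_⟩
    have e1 : h * g * h⁻¹ * wordE F w = wordE F w * wordE F (bif isA then eltAW else eltBW) :=
      GRep.ext (h2 ▸ hr.mul (wordE_rep F w)) ((wordE_rep F w).mul (wordE_elt isA))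
    calc (wordE F w)⁻¹ * h * g * ((wordE F w)⁻¹ * h)⁻¹ = (wordE F w)⁻¹ * (h * g * h⁻¹ * wordE F w) := by group
      _ = _ := by rw [e1, inv_mul_cancel_left]

theorem cover_A (c : ↥(Tw K)) (hc : c * wordE F eltAW = wordE F eltAW * c) :
    ∃ A, GRep F c A ∧ condA A = true := by
  refine centralizer_cover frameA (wordE_elt (F := F) true) eltXA.2 fixA fixedA condA ?_ c hc
  intro i hi
  simp only [fixA, List.mem_cons, List.not_mem_nil, or_false] at hi
  rcases hi with rfl | rfl | rfl | rfl | rfl | rfl | rfl | rfl | rfl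
  · exact ⟨fixAW0, fixAH0, beq_iff_eq.1 fixA_h0, by decide +kernel, candA_at0⟩
  · exact ⟨fixAW1, fixAH1, beq_iff_eq.1 fixA_h1, by decide +kernel, candA_at1⟩
  · exact ⟨fixAW2, fixAH2, beq_iff_eq.1 fixA_h2, by decide +kernel, candA_at2⟩
  · exact ⟨fixAW3, fixAH3, beq_iff_eq.1 fixA_h3, by decide +kernel, candA_at3⟩
  · exact ⟨fixAW4, fixAH4, beq_iff_eq.1 fixA_h4, by decide +kernel, candA_at4⟩
  · exact ⟨fixAW5, fixAH5, beq_iff_eq.1 fixA_h5, by decide +kernel, candA_at5⟩
  · exact ⟨fixAW6, fixAH6, beq_iff_eq.1 fixA_h6, by decide +kernel, candA_at6⟩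
  · exact ⟨fixAW7, fixAH7, beq_iff_eq.1 fixA_h7, by decide +kernel, candA_at7⟩
  · exact ⟨fixAW8, fixAH8, beq_iff_eq.1 fixA_h8, by decide +kernel, candA_at8⟩

theorem cover_B (c : ↥(Tw K)) (hc : c * wordE F eltBW = wordE F eltBW * c) :
    ∃ A, GRep F c A ∧ condB A = true := by
  refine centralizer_cover frameB (wordE_elt (F := F) false) eltXB.2 fixB fixedB condB ?_ c hc
  intro i hi
  simp only [fixB, List.mem_cons, List.not_mem_nil, or_false] at hi
  rcases hi with rfl | rfl | rfl | rfl | rfl | rfl | rfl | rfl | rfl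
  · exact ⟨fixBW0, fixBH0, beq_iff_eq.1 fixB_h0, by decide +kernel, candB_at0⟩
  · exact ⟨fixBW1, fixBH1, beq_iff_eq.1 fixB_h1, by decide +kernel, candB_at1⟩
  · exact ⟨fixBW2, fixBH2, beq_iff_eq.1 fixB_h2, by decide +kernel, candB_at2⟩
  · exact ⟨fixBW3, fixBH3, beq_iff_eq.1 fixB_h3, by decide +kernel, candB_at3⟩
  · exact ⟨fixBW4, fixBH4, beq_iff_eq.1 fixB_h4, by decide +kernel, candB_at4⟩
  · exact ⟨fixBW5, fixBH5, beq_iff_eq.1 fixB_h5, by decide +kernel, candB_at5⟩
  · exact ⟨fixBW6, fixBH6, beq_iff_eq.1 fixB_h6, by decide +kernel, candB_at6⟩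
  · exact ⟨fixBW7, fixBH7, beq_iff_eq.1 fixB_h7, by decide +kernel, candB_at7⟩
  · exact ⟨fixBW8, fixBH8, beq_iff_eq.1 fixB_h8, by decide +kernel, candB_at8⟩

theorem nine_bot (g : ↥(Tw K)) (hg : orderOf g = 9) : fixd F g = ⊥ := by
  haveI : Fact (Nat.Prime 3) := ⟨Nat.prime_three⟩
  obtain ⟨h, e, he, hr⟩ := sylow_cover (F := F) (p := 3) (k := 4) syl3 (gens_eq ▸ syl3_words) syl3Gm
    (gens_eq ▸ syl3_gm) syl3Dec syl3_dec syl_nodup.1 syl3_closed syl_one.1 syl_length.1 (by norm_num) g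
    ⟨2, by rw [hg]; norm_num⟩
  rcases cls3_sound syl3_cls e he with h1 | ⟨-, -, h3⟩ | ⟨isA, w, h3, -⟩
  · exfalso
    have : g = 1 := conj_eq_one_iff.1 (GRep.ext (h1 ▸ hr) grep_one)
    rw [this, orderOf_one] at hg
    norm_num at hg
  · exact fixd_conj_bot (fixd_bot_of_sumZero hr (by decide) h3)
  · exfalso
    have := orderOf_dvd_of_pow_eq_one (conj_pow_eq_one.1 ((pw_eq_id_iff hr).1 h3))
    rw [hg] at this
    norm_num at this

theorem thirteen_bot (g : ↥(Tw K)) (hg : orderOf g = 13) : fixd F g = ⊥ := by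
  haveI : Fact (Nat.Prime 13) := ⟨by norm_num⟩
  obtain ⟨h, e, he, hr⟩ := sylow_cover (F := F) (p := 13) (k := 1) syl13 (gens_eq ▸ syl13_words) syl13Gm
    (gens_eq ▸ syl13_gm) syl13Dec syl13_dec syl_nodup.2.2 syl13_closed syl_one.2.2 syl_length.2.2 (by norm_num) g
    ⟨1, by rw [hg, pow_one]⟩
  have := List.all_eq_true.1 syl13_cls e he
  simp only [Bool.and_eq_true, Bool.or_eq_true, beq_iff_eq] at this
  rcases this.2 with h1 | h1
  · exfalso
    have : g = 1 := conj_eq_one_iff.1 (GRep.ext (h1 ▸ hr) grep_one)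
    rw [this, orderOf_one] at hg
    norm_num at hg
  · exact fixd_conj_bot (fixd_bot_of_sumZero hr (by decide) h1)

theorem seven_cover (g : ↥(Tw K)) (hg : ∃ a, orderOf g = 7 ^ a) :
    g ^ 7 = 1 ∧ (g = 1 ∨ Module.finrank K (fixd F g) ≤ 2) := by
  haveI : Fact (Nat.Prime 7) := ⟨by norm_num⟩
  obtain ⟨h, e, he, hr⟩ := sylow_cover (F := F) (p := 7) (k := 2) syl7 (gens_eq ▸ syl7_words) syl7Gm
    (gens_eq ▸ syl7_gm) syl7Dec syl7_dec syl_nodup.2.1 syl7_closed syl_one.2.1 syl_length.2.1 (by norm_num) g hg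
  obtain ⟨h7, hcase⟩ := cls7_sound syl7_cls e he
  refine ⟨conj_pow_eq_one.1 ((pw_eq_id_iff hr).1 h7), ?_⟩
  rcases hcase with h1 | h1 | ⟨b, cf, hb, h1⟩
  · exact Or.inl (conj_eq_one_iff.1 (GRep.ext (h1 ▸ hr) grep_one))
  · right
    rw [fixd_conj_bot (fixd_bot_of_sumZero hr (by decide) h1), finrank_bot]
    exact Nat.zero_le _
  · right
    rw [← finrank_fixd_conj (F := F) (h := h)]
    exact (fixd_le_of_sumSpan hr (by decide) h1).trans hb

theorem specFacts : SpecFacts F where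
  nine := nine_bot
  thirteen := thirteen_bot
  no49 g hg := by
    have := orderOf_dvd_of_pow_eq_one (seven_cover (F := F) g ⟨2, by rw [hg]; norm_num⟩).1
    rw [hg] at this
    norm_num at this
  seven g hg := by
    rcases (seven_cover (F := F) g ⟨1, by rw [hg, pow_one]⟩).2 with rfl | h
    · rw [orderOf_one] at hg; norm_num at hg
    · exact h
  three g hg := by
    obtain ⟨isA, k, hk⟩ := conj_three (F := F) g hg
    rw [← finrank_fixd_conj (F := F) (h := k), hk]
    cases isA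
    · exact fixd_elt_le.2.trans (by norm_num)
    · exact fixd_elt_le.1
  four g c hg h3 hcg h4 := by
    obtain ⟨isA, k, hk⟩ := conj_three (F := F) g hg
    cases isA
    · exfalso
      rw [← finrank_fixd_conj (F := F) (h := k), hk] at h3
      have : Module.finrank K (fixd F (wordE F eltBW)) ≤ 2 := fixd_elt_le.2
      exact absurd (h3.trans this) (by norm_num)
    · have hcomm : k * c * k⁻¹ * (k * g * k⁻¹) = k * g * k⁻¹ * (k * c * k⁻¹) := by
        rw [show k * c * k⁻¹ * (k * g * k⁻¹) = k * (c * g) * k⁻¹ by group, hcg]; group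
      rw [hk] at hcomm
      obtain ⟨A, hA, hcond⟩ := cover_A _ hcomm
      simp only [condA, Bool.and_eq_true, Bool.or_eq_true, Bool.not_eq_true', beq_eq_false_iff_ne, beq_iff_eq] at hcond
      rcases hcond.1 with h | h
      · exact absurd ((pw_eq_id_iff hA).2 (conj_pow_eq_one.2 h4)) h
      · exact conj_pow_eq_one.1 ((pw_eq_id_iff hA).1 h)
  twentyone g c hg hc hcg := by
    obtain ⟨isA, k, hk⟩ := conj_three (F := F) g hg
    have hcomm : k * c * k⁻¹ * (k * g * k⁻¹) = k * g * k⁻¹ * (k * c * k⁻¹) := by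
      rw [show k * c * k⁻¹ * (k * g * k⁻¹) = k * (c * g) * k⁻¹ by group, hcg]; group
    rw [hk] at hcomm
    have h7 : (k * c * k⁻¹) ^ 7 = 1 := conj_pow_eq_one.2 (hc ▸ pow_orderOf_eq_one c)
    have hne : k * c * k⁻¹ ≠ 1 := fun e => by
      rw [conj_eq_one_iff.1 e, orderOf_one] at hc
      norm_num at hc
    cases isA
    · exfalso
      obtain ⟨A, hA, hcond⟩ := cover_B _ hcomm
      simp only [condB, Bool.or_eq_true, Bool.not_eq_true', beq_eq_false_iff_ne, beq_iff_eq] at hcond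
      rcases hcond with h | h
      · exact h ((pw_eq_id_iff hA).2 h7)
      · exact hne (GRep.ext (h ▸ hA) grep_one)
    · obtain ⟨A, hA, hcond⟩ := cover_A _ hcomm
      simp only [condA, Bool.and_eq_true, Bool.or_eq_true, Bool.not_eq_true', beq_eq_false_iff_ne, beq_iff_eq] at hcond
      have h0 : fixd F (k * c * k⁻¹) ⊓ fixd F (wordE F eltAW) = ⊥ := by
        rcases hcond.2 with (h | h) | h
        · exact absurd ((pw_eq_id_iff hA).2 h7) h
        · exact absurd (GRep.ext (h ▸ hA) grep_one) hne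
        · exact inf_bot_of_mm hA (wordE_elt true) (by decide) (by decide) h
      rw [eq_bot_iff]
      intro v hv
      have hm : Ψ F k v ∈ fixd F (k * c * k⁻¹) ⊓ fixd F (k * g * k⁻¹) := by
        constructor <;> rw [fixd_conj] <;> refine Submodule.mem_map_of_mem ?_
        · exact hv.2
        · exact hv.1
      rw [hk, show (bif true then eltAW else eltBW) = eltAW from rfl, h0, Submodule.mem_bot] at hm
      rw [Submodule.mem_bot]
      exact (Ψ F k).map_eq_zero_iff.1 hm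
  wit m hm := by
    obtain ⟨h1, h2⟩ := orderWit_ok
    rw [← h2, List.mem_map] at hm
    obtain ⟨e, he, rfl⟩ := hm
    have hpos : 0 < e.1 := by
      have : ∀ x ∈ orderWit.map Prod.fst, 0 < x := by rw [h2]; decide
      exact this _ (List.mem_map.2 ⟨e, he, rfl⟩)
    have hok := List.all_eq_true.1 h1 e he
    simp only [ordOK, gens_eq, foldr_matW, Bool.and_eq_true, beq_iff_eq, List.all_eq_true, List.mem_range,
      Bool.or_eq_true, Bool.not_eq_true', beq_eq_false_iff_ne, Nat.beq_eq] at hok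
    have hr := wordE_rep F e.2
    refine ⟨wordE F e.2, (orderOf_eq_iff hpos).2 ⟨(pw_eq_id_iff hr).1 hok.1, fun i hi h0 hi1 => ?_⟩⟩
    rcases hok.2 i hi with h | h
    · omega
    · exact h ((pw_eq_id_iff hr).2 hi1)

end Cfsg.Agent.D4Iso
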