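import Cfsg.Agent.Lib.D4Iso.Code

/-!
# Decoding bit codes over the field with eight elements
-/

set_option autoImplicit false

namespace Cfsg.Agent.D4Iso

variable (K : Type*) [Field K] [Fintype K]

/-- A field with eight elements together with a root of `X³ + X + 1`. -/
structure F8 where
  /-- the root -/
  α : K
  card : Fintype.card K = 8
  chr : ringChar K = 2
  rel : α ^ 3 = α + 1

variable {K}

theorem F8.exists_root (hK : Fintype.card K = 8) : Nonempty (F8 K) := by
  classical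
  have h2 : ringChar K = 2 := by
    obtain ⟨p, hp⟩ := CharP.exists K
    obtain ⟨n, hp', hn⟩ := FiniteField.card K p
    rw [ringChar.eq K p]
    have : p ∣ 2 ^ 3 := by
      rw [show (2 : ℕ) ^ 3 = 8 from rfl, ← hK, hn]
      exact dvd_pow_self _ n.ne_zero
    exact (Nat.prime_dvd_prime_iff_eq hp' Nat.prime_two).1 (hp'.dvd_of_dvd_pow this)
  have : CharP K 2 := ringChar.of_eq h2
  obtain ⟨x, hx0, hx1⟩ : ∃ x : K, x ≠ 0 ∧ x ≠ 1 := by
    by_contra hne
    push Not at hne
    have : Fintype.card K ≤ ({0, 1} : Finset K).card := Finset.card_le_card (s := Finset.univ) fun y _ => by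
      rcases eq_or_ne y 0 with rfl | hy
      · simp
      · simp [hne y hy]
    rw [hK, Finset.card_pair zero_ne_one] at this
    omega
  have h7 : x ^ 7 = 1 := by
    have := FiniteField.pow_card_sub_one_eq_one x hx0
    rwa [hK] at this
  have hf : (x + 1) * ((x ^ 3 + x + 1) * (x ^ 3 + x ^ 2 + 1)) = 0 := by
    have e : (x + 1) * ((x ^ 3 + x + 1) * (x ^ 3 + x ^ 2 + 1)) = x ^ 7 + 1 + (2 : K) * (x ^ 6 + x ^ 5 + 2 * x ^ 4 + 2 * x ^ 3 + x ^ 2 + x) := by
      ring
    rw [e, h7, CharTwo.add_self_eq_zero, CharTwo.two_eq_zero, zero_mul, add_zero]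
  rcases mul_eq_zero.1 hf with h | h
  · exact absurd (CharTwo.add_eq_zero.1 h) hx1
  rcases mul_eq_zero.1 h with h | h
  · exact ⟨⟨x, hK, h2, CharTwo.add_eq_zero.1 (by rwa [← add_assoc])⟩⟩
  · refine ⟨⟨x⁻¹, hK, h2, CharTwo.add_eq_zero.1 ?_⟩⟩
    have : (x⁻¹) ^ 3 + (x⁻¹ + 1) = (x⁻¹) ^ 3 * (x ^ 3 + x ^ 2 + 1) := by
      field_simp
      ring
    rw [this, h, mul_zero]

/-- A bit as a scalar. -/
def bit (b : ℕ) : K := if b % 2 = 1 then 1 else 0

namespace F8

variable (F : F8 K)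

/-- A scalar code. -/
def e (t : ℕ) : K := bit t + bit (t / 2) * F.α + bit (t / 4) * F.α ^ 2

theorem charTwo (F : F8 K) : CharP K 2 := ringChar.of_eq F.chr

theorem add_self (F : F8 K) (x : K) : x + x = 0 := by
  haveI := F.charTwo
  exact CharTwo.add_self_eq_zero x

theorem bit_xor (F : F8 K) (a b : ℕ) : (bit (a ^^^ b) : K) = bit a + bit b := by
  have h := Nat.xor_mod_two_pow (a := a) (b := b) (n := 1)
  rcases Nat.mod_two_eq_zero_or_one a with ha | ha <;> rcases Nat.mod_two_eq_zero_or_one b with hb | hb <;>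
    simp only [pow_one, ha, hb] at h <;> simp [bit, ha, hb, h, F.add_self]

theorem e_xor (a b : ℕ) : F.e (a ^^^ b) = F.e a + F.e b := by
  have h2 : (a ^^^ b) / 2 = a / 2 ^^^ b / 2 := Nat.xor_div_two
  have h4 : (a ^^^ b) / 4 = a / 4 ^^^ b / 4 := by
    simpa using Nat.xor_div_two_pow (a := a) (b := b) (n := 2)
  simp only [e, h2, h4, F.bit_xor]
  ring

@[simp] theorem e_zero : F.e 0 = 0 := by simp [e, bit]
@[simp] theorem e_one : F.e 1 = 1 := by simp [e, bit]
theorem e_two : F.e 2 = F.α := by simp [e, bit]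
theorem e_four : F.e 4 = F.α ^ 2 := by simp [e, bit]

theorem e_inv : ∀ c, 1 ≤ c → c < 8 → ∃ d, F.e c * F.e d = 1 := by
  haveI := F.charTwo
  have h := F.rel
  have two : (2 : K) = 0 := CharTwo.two_eq_zero
  intro c h1 h8
  interval_cases c
  · exact ⟨1, by simp⟩
  · exact ⟨5, by simp only [e, bit]; norm_num; linear_combination h + F.α * two⟩
  · exact ⟨6, by simp only [e, bit]; norm_num; linear_combination h + (F.α ^ 2 + F.α) * two⟩
  · exact ⟨7, by simp only [e, bit]; norm_num; linear_combination (F.α + 1) * h + (F.α ^ 2 + F.α) * two⟩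
  · exact ⟨2, by simp only [e, bit]; norm_num; linear_combination h + F.α * two⟩
  · exact ⟨3, by simp only [e, bit]; norm_num; linear_combination h + (F.α ^ 2 + F.α) * two⟩
  · exact ⟨4, by simp only [e, bit]; norm_num; linear_combination (F.α + 1) * h + (F.α ^ 2 + F.α) * two⟩

theorem e_inj {a b : ℕ} (ha : a < 8) (hb : b < 8) (h : F.e a = F.e b) : a = b := by
  by_contra hne
  have hlt : a ^^^ b < 2 ^ 3 := Nat.xor_lt_two_pow (by simpa using ha) (by simpa using hb)
  have h0 : F.e (a ^^^ b) = 0 := by rw [F.e_xor, h, F.add_self]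
  have hpos : 1 ≤ a ^^^ b := Nat.one_le_iff_ne_zero.2 fun hz => hne (Nat.xor_eq_zero_iff.1 hz)
  obtain ⟨d, hd⟩ := F.e_inv _ hpos (by simpa using hlt)
  rw [h0, zero_mul] at hd
  exact zero_ne_one hd

theorem e_surj (x : K) : ∃ t < 8, F.e t = x := by
  have hinj : Function.Injective fun t : Fin 8 => F.e t.1 := fun a b h => Fin.ext (F.e_inj a.2 b.2 h)
  obtain ⟨t, ht⟩ := ((Fintype.bijective_iff_injective_and_card _).2 ⟨hinj, by simp [F.card]⟩).2 x
  exact ⟨t.1, t.2, ht⟩

/-- The unit vector `i`. -/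
def dec (v : ℕ → (Fin 4 ⊕ Fin 4 → K)) (c : ℕ) : Fin 4 ⊕ Fin 4 → K :=
  ∑ i ∈ Finset.range 8, F.e (coord i c) • v i

variable (v : ℕ → (Fin 4 ⊕ Fin 4 → K))

theorem dec_xor (a b : ℕ) : F.dec v (a ^^^ b) = F.dec v a + F.dec v b := by
  simp only [dec, coord_xor, F.e_xor, add_smul, Finset.sum_add_distrib]

theorem dec_zero : F.dec v 0 = 0 := by simp [dec, coord]

theorem dec_pow {i b : ℕ} (hi : i < 8) (hb : b < 3) : F.dec v (2 ^ (3 * i + b)) = F.α ^ b • v i := by
  rw [dec, Finset.sum_eq_single i]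
  · have : coord i (2 ^ (3 * i + b)) = 2 ^ b := by
      rw [coord, pow_add, Nat.mul_div_cancel_left _ (by positivity), Nat.mod_eq_of_lt]
      exact Nat.pow_lt_pow_right (by norm_num) hb
    rw [this]
    interval_cases b <;> simp [F.e_two, F.e_four]
  · intro j hj hne
    have : coord j (2 ^ (3 * i + b)) = 0 := by
      rcases lt_or_gt_of_ne hne with h | h
      · rw [coord, Nat.pow_div (by omega) (by norm_num)]
        obtain ⟨k, hk⟩ : ∃ k, 3 * i + b - 3 * j = k + 3 := ⟨3 * i + b - 3 * j - 3, by omega⟩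
        rw [hk, pow_add, Nat.mul_mod_left]
      · rw [coord, Nat.div_eq_of_lt (Nat.pow_lt_pow_right (by norm_num) (by omega)), Nat.zero_mod]
    rw [this, F.e_zero, zero_smul]
  · intro h
    exact absurd (Finset.mem_range.2 hi) h

theorem dec_alM (c : ℕ) (hc : c < 2 ^ 24) : F.dec v (appR alM c) = F.α • F.dec v c := by
  refine ext_add 24 (fun c => F.dec v (appR alM c)) (fun c => F.α • F.dec v c)
    (fun a b _ _ => by simp only [appR_xor, F.dec_xor]) (fun a b _ _ => by simp only [F.dec_xor, smul_add])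
    (fun j hj => ?_) c hc
  obtain ⟨i, b, hb, rfl⟩ : ∃ i b, b < 3 ∧ j = 3 * i + b := ⟨j / 3, j % 3, Nat.mod_lt _ (by norm_num), (Nat.div_add_mod j 3).symm⟩
  have hi : i < 8 := by omega
  rw [appR_pow, F.dec_pow v hi hb, smul_smul, ← pow_succ']
  have hg : alM.getD (3 * i + b) 0 = (bif Nat.beq b 2 then 2 ^ (3 * i) ^^^ 2 ^ (3 * i + 1)
      else 2 ^ (3 * i + (b + 1))) := by
    interval_cases i <;> interval_cases b <;> rfl
  rw [hg]
  have e02 : Nat.beq 0 2 = false := rfl
  have e12 : Nat.beq 1 2 = false := rfl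
  interval_cases b
  · simpa [e02] using F.dec_pow v hi (b := 1) (by norm_num)
  · simpa [e12] using F.dec_pow v hi (b := 2) (by norm_num)
  · have h0 := F.dec_pow v hi (b := 0) (by norm_num)
    simp only [add_zero, pow_zero] at h0
    show F.dec v (2 ^ (3 * i) ^^^ 2 ^ (3 * i + 1)) = _
    rw [F.dec_xor, h0, F.dec_pow v hi (by norm_num), pow_one, F.rel, add_smul, add_comm]

theorem dec_scal {t c : ℕ} (hc : c < 2 ^ 24) : F.dec v (scal t c) = F.e t • F.dec v c := by
  have hal : appR alM c < 2 ^ 24 := appR_lt (by decide) c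
  have h1 : ∀ (s : ℕ) (x : ℕ), F.dec v (bif Nat.beq (s % 2) 1 then x else 0) = (bit s : K) • F.dec v x := by
    intro s x
    rcases Nat.mod_two_eq_zero_or_one s with h | h <;> simp [bit, h, beq01, F.dec_zero]
  simp only [scal, F.dec_xor, h1, F.dec_alM v _ hc, F.dec_alM v _ hal, e, add_smul, smul_smul, pow_two]

theorem scal_lt {t c : ℕ} (hc : c < 2 ^ 24) : scal t c < 2 ^ 24 := by
  have hal : ∀ x, appR alM x < 2 ^ 24 := fun x => appR_lt (by decide) x
  refine Nat.xor_lt_two_pow (Nat.xor_lt_two_pow ?_ ?_) ?_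
  · cases Nat.beq (t % 2) 1 <;> simp only [cond] <;> first | exact hc | norm_num
  · cases Nat.beq (t / 2 % 2) 1 <;> simp only [cond] <;> first | exact hal _ | norm_num
  · cases Nat.beq (t / 4 % 2) 1 <;> simp only [cond] <;> first | exact hal _ | norm_num

end F8

end Cfsg.Agent.D4Iso
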