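import Cfsg.Agent.Lib.D4Iso.Gens
import Cfsg.Agent.Lib.D4Iso.Check
import Cfsg.Agent.Lib.D4Iso.GenList

/-!
# Orbits of totally singular subspaces, their stabilisers, and centralisers
-/

set_option autoImplicit false
set_option maxRecDepth 8000

namespace Cfsg.Agent.D4Iso

open Cfsg.Agent.Chev

theorem gens_eq : gensLit = genMats := by decide +kernel

theorem foldr_matW : ∀ w : List ℕ, w.foldr (fun a B => mm (genMats.getD a idM) B) idM = matW w
  | [] => rfl
  | a :: w => by rw [List.foldr_cons, foldr_matW w, matW]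

variable {K : Type*} [Field K] [Fintype K] (F : F8 K)

theorem appW_eq (F : F8 K) : ∀ (w : List ℕ) (c : ℕ), c < 2 ^ 24 → appW genMats w c = appR (matW w) c
  | [], c, hc => by
    have h := (rep_id (F := F)).2 c hc
    exact d_inj (F := F) hc (appR_lt (okM_lt (rep_id (F := F)).1) c) h
  | a :: w, c, hc => by rw [appW, appW_eq F w c hc, matW, appR_mm]

/-- The span of decoded codes. -/
def Sp (p : List ℕ) : Submodule K (V8 K) := Submodule.span K {x | ∃ c ∈ p, x = F.d c}

/-- Points: subspaces with the action of the group. -/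
def Pts (_F : F8 K) : Type _ := Submodule K (V8 K)

noncomputable instance : MulAction ↥(Tw K) (Pts F) where
  smul g S := Submodule.map (Ψ F g).toLinearMap (S : Submodule K (V8 K))
  one_smul S := by
    show Submodule.map _ _ = _
    rw [map_one]
    exact Submodule.map_id _
  mul_smul g h S := by
    change Submodule.map ((Ψ F (g * h)).toLinearMap) _ = _
    rw [map_mul]
    exact Submodule.map_comp _ _ (S : Submodule K (V8 K))

/-- A span as a point. -/
def pnt (p : List ℕ) : Pts F := Sp F p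

variable {F}

/-- All codes are bounded. -/
def Bd (p : List ℕ) : Prop := ∀ c ∈ p, c < 2 ^ 24

theorem mem_Sp {p : List ℕ} {c : ℕ} (hc : c ∈ p) : F.d c ∈ Sp F p :=
  Submodule.subset_span ⟨c, hc, rfl⟩

theorem Sp_cons {u : ℕ} {us : List ℕ} : Sp F us ≤ Sp F (u :: us) :=
  Submodule.span_mono fun _ ⟨c, hc, e⟩ => ⟨c, List.mem_cons_of_mem _ hc, e⟩

theorem d_comb : ∀ {p : List ℕ}, Bd p → ∀ a, F.d (comb p a) ∈ Sp F p ∧ comb p a < 2 ^ 24
  | [], _, a => ⟨by simp [comb, F.dec_zero], by simp [comb]⟩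
  | u :: us, hp, [] => ⟨by simp [comb, F.dec_zero], by simp [comb]⟩
  | u :: us, hp, a :: as => by
    obtain ⟨h1, h2⟩ := d_comb (p := us) (fun c hc => hp c (List.mem_cons_of_mem _ hc)) as
    have hu := hp u List.mem_cons_self
    refine ⟨?_, Nat.xor_lt_two_pow (F8.scal_lt hu) h2⟩
    rw [comb, F8.d, F.dec_xor, F.dec_scal _ hu]
    refine add_mem (Submodule.smul_mem _ _ (mem_Sp List.mem_cons_self)) ?_
    exact Sp_cons h1

theorem spanL_sound : ∀ {p : List ℕ}, Bd p → ∀ c ∈ spanL p, F.d c ∈ Sp F p ∧ c < 2 ^ 24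
  | [], _, c, hc => by
    obtain rfl : c = 0 := by simpa [spanL] using hc
    exact ⟨by simp [F.dec_zero], by norm_num⟩
  | u :: us, hp, c, hc => by
    simp only [spanL, List.mem_flatMap, List.mem_map, mults, List.mem_range] at hc
    obtain ⟨r, hr, _, ⟨a, _, rfl⟩, rfl⟩ := hc
    obtain ⟨h1, h2⟩ := spanL_sound (p := us) (fun c hc => hp c (List.mem_cons_of_mem _ hc)) r hr
    have hu := hp u List.mem_cons_self
    refine ⟨?_, Nat.xor_lt_two_pow (F8.scal_lt hu) h2⟩
    rw [F8.d, F.dec_xor, F.dec_scal _ hu]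
    refine add_mem (Submodule.smul_mem _ _ (mem_Sp List.mem_cons_self)) ?_
    exact Sp_cons h1

theorem spanL_complete : ∀ {p : List ℕ}, Bd p → ∀ v ∈ Sp F p, ∃ c ∈ spanL p, F.d c = v
  | [], _, v, hv => ⟨0, by simp [spanL], by simpa [Sp, F.dec_zero, eq_comm] using hv⟩
  | u :: us, hp, v, hv => by
    have hset : {x | ∃ c ∈ u :: us, x = F.d c} = insert (F.d u) {x | ∃ c ∈ us, x = F.d c} := by
      ext x; simp [or_and_right, exists_or]
    rw [Sp, hset, Submodule.mem_span_insert] at hv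
    obtain ⟨a, w, hw, rfl⟩ := hv
    obtain ⟨r, hr, rfl⟩ := spanL_complete (p := us) (fun c hc => hp c (List.mem_cons_of_mem _ hc)) w hw
    obtain ⟨t, ht, rfl⟩ := F.e_surj a
    refine ⟨scal t u ^^^ r, ?_, ?_⟩
    · simp only [spanL, List.mem_flatMap, List.mem_map, mults, List.mem_range]
      exact ⟨r, hr, _, ⟨t, ht, rfl⟩, rfl⟩
    · rw [F8.d, F.dec_xor, F.dec_scal _ (hp u List.mem_cons_self)]

theorem memN_iff {x : ℕ} {l : List ℕ} : memN x l = true ↔ x ∈ l := by
  simp [memN, List.any_eq_true]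

theorem spanEq_iff {p q : List ℕ} (hp : Bd p) (hq : Bd q) : spanEq p q = true ↔ Sp F p = Sp F q := by
  simp only [spanEq, Bool.and_eq_true, List.all_eq_true, memN_iff]
  constructor
  · rintro ⟨h1, h2⟩
    refine le_antisymm (Submodule.span_le.2 ?_) (Submodule.span_le.2 ?_)
    · rintro x ⟨c, hc, rfl⟩; exact (spanL_sound hq c (h1 c hc)).1
    · rintro x ⟨c, hc, rfl⟩; exact (spanL_sound hp c (h2 c hc)).1
  · intro h
    refine ⟨fun c hc => ?_, fun c hc => ?_⟩
    · obtain ⟨c', hc', he⟩ := spanL_complete (F := F) hq (F.d c) (h ▸ mem_Sp hc)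
      rwa [← d_inj (F := F) (spanL_sound (F := F) hq c' hc').2 (hp c hc) he]
    · obtain ⟨c', hc', he⟩ := spanL_complete (F := F) hp (F.d c) (h.symm ▸ mem_Sp hc)
      rwa [← d_inj (F := F) (spanL_sound (F := F) hp c' hc').2 (hq c hc) he]

theorem maxN_le {l : List ℕ} {m : ℕ} : maxN l ≤ m ↔ ∀ x ∈ l, x ≤ m := by
  induction l with
  | nil => simp [maxN]
  | cons a l ih =>
    simp only [maxN, List.forall_mem_cons, ← ih]
    cases h : Nat.ble (maxN l) a
    · have h' : ¬ maxN l ≤ a := fun e => by rw [Nat.ble_eq_true_of_le e] at h; cases h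
      simp only [cond]
      exact ⟨fun e => ⟨by omega, e⟩, fun e => e.2⟩
    · have h' := Nat.le_of_ble_eq_true h
      simp only [cond]
      exact ⟨fun e => ⟨e, by omega⟩, fun e => e.1⟩

theorem maxN_congr {a b : List ℕ} (h : ∀ x, x ∈ a ↔ x ∈ b) : maxN a = maxN b :=
  le_antisymm (maxN_le.2 fun x hx => maxN_le.1 le_rfl x ((h x).1 hx))
    (maxN_le.2 fun x hx => maxN_le.1 le_rfl x ((h x).2 hx))

theorem key_congr {p q : List ℕ} (hp : Bd p) (hq : Bd q) (h : Sp F p = Sp F q) : key p = key q := by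
  have hmem : ∀ x, x ∈ spanL p ↔ x ∈ spanL q := by
    intro x
    constructor <;> intro hx
    · obtain ⟨hs, hb⟩ := spanL_sound (F := F) hp x hx
      obtain ⟨c', hc', he⟩ := spanL_complete (F := F) hq (F.d x) (h ▸ hs)
      rwa [← d_inj (F := F) (spanL_sound (F := F) hq c' hc').2 hb he]
    · obtain ⟨hs, hb⟩ := spanL_sound (F := F) hq x hx
      obtain ⟨c', hc', he⟩ := spanL_complete (F := F) hp (F.d x) (h.symm ▸ hs)
      rwa [← d_inj (F := F) (spanL_sound (F := F) hp c' hc').2 hb he]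
  have hmap : ∀ k : ℕ, maxN ((spanL p).map (· ^^^ k)) = maxN ((spanL q).map (· ^^^ k)) := fun k =>
    maxN_congr fun x => by simp only [List.mem_map, hmem]
  simp only [key, keyOf]
  rw [maxN_congr hmem, hmap, hmap, hmap]

theorem imgP_bd {g : ↥(Tw K)} {A : List ℕ} (hA : GRep F g A) (p : List ℕ) : Bd (imgP A p) := by
  intro c hc
  obtain ⟨x, -, rfl⟩ := List.mem_map.1 hc
  exact appR_lt (okM_lt hA.1) x

theorem smul_pnt {g : ↥(Tw K)} {A : List ℕ} (hA : GRep F g A) {p : List ℕ} (hp : Bd p) :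
    g • pnt F p = pnt F (imgP A p) := by
  show Submodule.map _ (Submodule.span K _) = Submodule.span K _
  rw [Submodule.map_span]
  congr 1
  ext x
  constructor
  · rintro ⟨y, ⟨c, hc, rfl⟩, rfl⟩
    exact ⟨appR A c, List.mem_map.2 ⟨c, hc, rfl⟩, hA.2 c (hp c hc)⟩
  · rintro ⟨c, hc, rfl⟩
    obtain ⟨y, hy, rfl⟩ := List.mem_map.1 hc
    exact ⟨F.d y, ⟨y, hy, rfl⟩, hA.2 y (hp y hy)⟩

theorem word_smul {w : List ℕ} {p : List ℕ} (hp : Bd p) :
    wordE F w • pnt F p = pnt F (p.map (appW genMats w)) := by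
  rw [smul_pnt (wordE_rep F w) hp]
  exact congrArg (pnt F) (List.map_congr_left fun c hc => (appW_eq F w c (hp c hc)).symm)

/-! ## Orbit -/

variable (D : OrbitData)

theorem pt_bd (h : ∀ i < D.n, D.ok genMats i = true) {i : ℕ} (hi : i < D.n) : Bd (D.pt i) := by
  have := h i hi
  simp only [OrbitData.ok, Bool.and_eq_true, List.all_eq_true, Nat.blt_eq] at this
  exact this.1.2

theorem pt_inj (h : ∀ i < D.n, D.ok genMats i = true) {i j : ℕ} (hi : i < D.n) (hj : j < D.n)
    (e : pnt F (D.pt i) = pnt F (D.pt j)) : i = j := by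
  have h1 := h i hi
  have h2 := h j hj
  simp only [OrbitData.ok, Bool.and_eq_true, Nat.beq_eq] at h1 h2
  rw [← h1.1.1.1, ← h2.1.1.1, key_congr (pt_bd D h hi) (pt_bd D h hj) e]

theorem orbit_eq (h : ∀ i < D.n, D.ok genMats i = true) (hn : 0 < D.n) :
    MulAction.orbit ↥(Tw K) (pnt F (D.pt 0)) = {x | ∃ i < D.n, x = pnt F (D.pt i)} := by
  have hgen : ∀ k < 8, ∀ i < D.n, ∃ j < D.n, gE F k • pnt F (D.pt i) = pnt F (D.pt j) := by
    intro k hk i hi
    have h1 := h i hi
    simp only [OrbitData.ok, Bool.and_eq_true, List.all_eq_true, Nat.blt_eq] at h1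
    have hmem : genMats.getD k idM ∈ genMats := by
      rw [List.getD_eq_getElem _ _ (by exact hk)]; exact List.getElem_mem _
    obtain ⟨hj, hs⟩ := h1.2 _ hmem
    refine ⟨_, hj, ?_⟩
    rw [smul_pnt (gE_rep F k) (pt_bd D h hi)]
    exact (spanEq_iff (imgP_bd (gE_rep F k) _) (pt_bd D h hj)).1 hs
  ext x
  constructor
  · rintro ⟨g, rfl⟩
    obtain ⟨w, hw, rfl⟩ := exists_word F g
    induction w with
    | nil => exact ⟨0, hn, by simp [wordE]⟩
    | cons a w ih =>
      obtain ⟨i, hi, he⟩ := ih (fun b hb => hw b (List.mem_cons_of_mem _ hb))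
      obtain ⟨j, hj, he'⟩ := hgen a (hw a List.mem_cons_self) i hi
      refine ⟨j, hj, ?_⟩
      show wordE F ([a] ++ w) • _ = _
      rw [wordE_append, mul_smul]
      show wordE F [a] • (wordE F w • pnt F (D.pt 0)) = _
      rw [show wordE F w • pnt F (D.pt 0) = _ from he, ← he']
      simp [wordE]
  · rintro ⟨i, hi, rfl⟩
    induction i using Nat.strong_induction_on with
    | _ i ih =>
      rcases Nat.eq_zero_or_pos i with rfl | hpos
      · exact MulAction.mem_orbit_self _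
      · have h1 := h i hi
        simp only [OrbitData.ok, Bool.and_eq_true, Bool.or_eq_true, Nat.beq_eq, Nat.blt_eq] at h1
        rcases h1.1.1.2 with h0 | ⟨⟨hlt, hk⟩, hs⟩
        · omega
        · obtain ⟨g, hg⟩ := ih _ hlt (hlt.trans hi)
          have hgetD : genMats.getD (D.prd i).2 [] = genMats.getD (D.prd i).2 idM := by
            rw [List.getD_eq_getElem _ _ hk, List.getD_eq_getElem _ _ hk]
          rw [hgetD] at hs
          refine ⟨gE F (D.prd i).2 * g, ?_⟩
          show (gE F (D.prd i).2 * g) • _ = _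
          rw [mul_smul, show g • pnt F (D.pt 0) = _ from hg, smul_pnt (gE_rep F _) (pt_bd D h (hlt.trans hi))]
          exact (spanEq_iff (imgP_bd (gE_rep F _) _) (pt_bd D h hi)).1 hs

theorem orbit_card (h : ∀ i < D.n, D.ok genMats i = true) (hn : 0 < D.n) :
    Nat.card (MulAction.orbit ↥(Tw K) (pnt F (D.pt 0))) = D.n := by
  rw [orbit_eq D h hn]
  have : Function.Bijective fun i : Fin D.n => (⟨pnt F (D.pt i), i, i.2, rfl⟩ : {x | ∃ i < D.n, x = pnt F (D.pt i)}) :=
    ⟨fun i j e => Fin.ext (pt_inj D h i.2 j.2 (congrArg Subtype.val e)),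
      fun ⟨x, i, hi, hx⟩ => ⟨⟨i, hi⟩, Subtype.ext hx.symm⟩⟩
  rw [← Nat.card_eq_of_bijective _ this, Nat.card_fin]

end Cfsg.Agent.D4Iso
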