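import Cfsg.Agent.Lib.D4Iso.Rep

/-!
# Eight generators of `³D₄(2)` and their matrices
-/

set_option autoImplicit false
set_option maxRecDepth 8000

namespace Cfsg.Agent.D4Iso

open Cfsg.Lie
open Cfsg.Agent.Chev

variable {K : Type*} [Field K]

/-- The three commuting root elements of an orbit. -/
noncomputable def tripE (rs : ℕ × ℕ × ℕ) (t : K) : GL D4Data.tab.D.Idx K :=
  (([(rs.1, t), (rs.2.1, t ^ 2), (rs.2.2, t ^ (2 ^ 2))] : List (ℕ × K)).map fun e =>
    Tab.xg D4Data.good e.1 e.2).prod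

theorem trip_mem (rs : ℕ × ℕ × ℕ) (hrs : rs ∈ [(d4p1, d4p3, d4p4), (d4m1, d4m3, d4m4)]) (t : K) :
    tripE rs t ∈ Tw K :=
  Tab.word_mem D4Data.good (Or.inr ⟨t, rs, hrs, rfl⟩)

theorem mid_mem {r : ℕ} (hr : r ∈ [d4p2, d4m2]) : Tab.xg D4Data.good r (1 : K) ∈ Tw K := by
  have h : (([(r, (1 : K))] : List (ℕ × K)).map fun e => Tab.xg D4Data.good e.1 e.2).prod ∈ Tw K :=
    Tab.word_mem D4Data.good (Or.inl ⟨1, one_pow 2, r, hr, rfl⟩)
  simpa using h

theorem tw_le : Tw K ≤ D4Data.tab.D.group K := by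
  show D4Data.tab.D.genSubgroup K _ ≤ _
  rw [Tab.genSubgroup_eq D4Data.good, Subgroup.closure_le]
  rintro x ⟨w, -, rfl⟩
  refine Subgroup.list_prod_mem _ fun y hy => ?_
  obtain ⟨e, -, rfl⟩ := List.mem_map.1 hy
  exact Tab.xg_mem_group _ _ _

variable [Fintype K] (F : F8 K)

/-- A faithful representation agreeing with the root elements. -/
noncomputable def phi : ↥(D4Data.tab.D.group K) →* (V8 K ≃ₗ[K] V8 K) := (exists_phi F.chr).choose

/-- The representation of the twisted group. -/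
noncomputable def Ψ : ↥(Tw K) →* (V8 K ≃ₗ[K] V8 K) := (phi F).comp (Subgroup.inclusion tw_le)

theorem Ψ_inj : Function.Injective (Ψ F) :=
  (exists_phi F.chr).choose_spec.1.comp (Subgroup.inclusion_injective _)

/-- The matrix of an element. -/
def GRep (g : ↥(Tw K)) (A : List ℕ) : Prop := Rep F (fun x => Ψ F g x) A

variable {F}

theorem GRep.mul {g h : ↥(Tw K)} {A B : List ℕ} (hA : GRep F g A) (hB : GRep F h B) :
    GRep F (g * h) (mm A B) := by
  have := hA.comp hB
  simpa [GRep, Function.comp_def] using this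

theorem grep_one : GRep F (1 : ↥(Tw K)) idM := by
  simpa [GRep] using (rep_id : Rep F (fun x => x) idM)

theorem GRep.ext {g h : ↥(Tw K)} {A : List ℕ} (hA : GRep F g A) (hB : GRep F h A) : g = h :=
  Ψ_inj F (LinearEquiv.ext (congrFun (Rep.ext hA hB)))

theorem GRep.eq {g : ↥(Tw K)} {A B : List ℕ} (hA : GRep F g A) (hB : GRep F g B) : A = B :=
  Rep.unique hA hB

theorem GRep.pow {g : ↥(Tw K)} {A : List ℕ} (hA : GRep F g A) : ∀ k, GRep F (g ^ k) (pw A k)
  | 0 => by simpa [pw] using (grep_one (F := F))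
  | k + 1 => by simpa [pw, pow_succ'] using hA.mul (GRep.pow hA k)

/-- Roots of an element as a matrix. -/
theorem xg_rep {r t : ℕ} (hr : r < 24) :
    Rep F (fun x => phi F ⟨Tab.xg D4Data.good r (F.e t), Tab.xg_mem_group D4Data.good r _⟩ x)
      (rootM t (genMats.wI r) (genMats.uI r) (genMats.uI r ^^^ 1) (genMats.wI r ^^^ 1)) := by
  have h := (exists_phi F.chr).choose_spec.2 r hr (F.e t)
  unfold phi
  simp only [h]
  exact rootM_rep F hr

/-- The matrix of a triple. -/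
def tripM (rs : ℕ × ℕ × ℕ) (t : ℕ) : List ℕ :=
  mm (mm (rootM t (genMats.wI rs.1) (genMats.uI rs.1) (genMats.uI rs.1 ^^^ 1) (genMats.wI rs.1 ^^^ 1))
    (rootM (genMats.sqC t) (genMats.wI rs.2.1) (genMats.uI rs.2.1) (genMats.uI rs.2.1 ^^^ 1) (genMats.wI rs.2.1 ^^^ 1)))
    (rootM (genMats.sqC (genMats.sqC t)) (genMats.wI rs.2.2) (genMats.uI rs.2.2) (genMats.uI rs.2.2 ^^^ 1)
      (genMats.wI rs.2.2 ^^^ 1))

/-- The matrix of a middle element. -/
def midM (r : ℕ) : List ℕ :=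
  rootM 1 (genMats.wI r) (genMats.uI r) (genMats.uI r ^^^ 1) (genMats.wI r ^^^ 1)

theorem trip_rep (rs : ℕ × ℕ × ℕ) (hrs : rs ∈ [(d4p1, d4p3, d4p4), (d4m1, d4m3, d4m4)]) {t : ℕ} (ht : t < 8) :
    GRep F ⟨tripE rs (F.e t), trip_mem rs hrs _⟩ (tripM rs t) := by
  have hlt : rs.1 < 24 ∧ rs.2.1 < 24 ∧ rs.2.2 < 24 := by
    simp only [List.mem_cons, List.not_mem_nil, or_false] at hrs
    rcases hrs with rfl | rfl <;> decide
  have hs : ∀ t < 8, genMats.sqC t < 8 := by decide +kernel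
  have e2 := e_sqC F t ht
  have e4 := e_sqC F _ (hs t ht)
  have key := ((xg_rep (F := F) (t := t) hlt.1).comp (xg_rep (F := F) (t := genMats.sqC t) hlt.2.1)).comp
    (xg_rep (F := F) (t := genMats.sqC (genMats.sqC t)) hlt.2.2)
  unfold GRep
  refine (congrArg (fun f => Rep F f (tripM rs t)) ?_).mpr key
  funext x
  simp only [Function.comp]
  rw [← LinearEquiv.mul_apply, ← LinearEquiv.mul_apply, ← map_mul, ← map_mul]
  refine congrArg (fun g => phi F g x) (Subtype.ext ?_)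
  show tripE rs (F.e t) = _
  simp [tripE, e4, e2, ← pow_mul, mul_assoc]

theorem mid_rep {r : ℕ} (hr : r ∈ [d4p2, d4m2]) :
    GRep F ⟨Tab.xg D4Data.good r (1 : K), mid_mem hr⟩ (midM r) := by
  have hlt : r < 24 := by
    simp only [List.mem_cons, List.not_mem_nil, or_false] at hr
    rcases hr with rfl | rfl <;> decide
  have := xg_rep (F := F) (t := 1) hlt
  simp only [F.e_one] at this
  exact this

variable (F)

/-- The generators. -/
noncomputable def gE : ℕ → ↥(Tw K)
  | 0 => ⟨tripE _ (F.e 1), trip_mem (d4p1, d4p3, d4p4) (by simp) _⟩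
  | 1 => ⟨tripE _ (F.e 2), trip_mem (d4p1, d4p3, d4p4) (by simp) _⟩
  | 2 => ⟨tripE _ (F.e 4), trip_mem (d4p1, d4p3, d4p4) (by simp) _⟩
  | 3 => ⟨tripE _ (F.e 1), trip_mem (d4m1, d4m3, d4m4) (by simp) _⟩
  | 4 => ⟨tripE _ (F.e 2), trip_mem (d4m1, d4m3, d4m4) (by simp) _⟩
  | 5 => ⟨tripE _ (F.e 4), trip_mem (d4m1, d4m3, d4m4) (by simp) _⟩
  | 6 => ⟨Tab.xg D4Data.good d4p2 1, mid_mem (by simp)⟩
  | 7 => ⟨Tab.xg D4Data.good d4m2 1, mid_mem (by simp)⟩
  | _ => 1

/-- The element of a word. -/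
noncomputable def wordE (w : List ℕ) : ↥(Tw K) := (w.map (gE F)).prod

theorem gE_rep : ∀ k, GRep F (gE F k) (genMats.getD k idM)
  | 0 => trip_rep (d4p1, d4p3, d4p4) (by simp) (by norm_num)
  | 1 => trip_rep (d4p1, d4p3, d4p4) (by simp) (by norm_num)
  | 2 => trip_rep (d4p1, d4p3, d4p4) (by simp) (by norm_num)
  | 3 => trip_rep (d4m1, d4m3, d4m4) (by simp) (by norm_num)
  | 4 => trip_rep (d4m1, d4m3, d4m4) (by simp) (by norm_num)
  | 5 => trip_rep (d4m1, d4m3, d4m4) (by simp) (by norm_num)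
  | 6 => mid_rep (r := d4p2) (by simp)
  | 7 => mid_rep (r := d4m2) (by simp)
  | _ + 8 => grep_one

theorem wordE_rep : ∀ w, GRep F (wordE F w) (matW w)
  | [] => grep_one
  | a :: w => by
    have := (gE_rep F a).mul (wordE_rep w)
    simpa [wordE, matW] using this

theorem wordE_append (u v : List ℕ) : wordE F (u ++ v) = wordE F u * wordE F v := by
  simp [wordE]

/-- Words for the generators of a triple. -/
def tripWord (base t : ℕ) : List ℕ :=
  (if t % 2 = 1 then [base] else []) ++ (if t / 2 % 2 = 1 then [base + 1] else []) ++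
    (if t / 4 % 2 = 1 then [base + 2] else [])

theorem tripWord_check : (List.range 8).all (fun t =>
    matW (tripWord 0 t) == tripM (d4p1, d4p3, d4p4) t && matW (tripWord 3 t) == tripM (d4m1, d4m3, d4m4) t) = true := by
  decide +kernel

/-- The eight elements generate. -/
theorem exists_word (g : ↥(Tw K)) : ∃ w, (∀ a ∈ w, a < 8) ∧ wordE F w = g := by
  haveI : Finite ↥(Tw K) := inferInstance
  have hgen : ∀ x : GL D4Data.tab.D.Idx K, ∀ hx : x ∈ Tw K,
      (∃ t ∈ d4Words K 2, x = (t.map fun e => Tab.xg D4Data.good e.1 e.2).prod) →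
      ∃ w, (∀ a ∈ w, a < 8) ∧ wordE F w = ⟨x, hx⟩ := by
    rintro x hx ⟨l, hl, rfl⟩
    rcases hl with ⟨t, ht, r, hr, rfl⟩ | ⟨t, rs, hrs, rfl⟩
    · have : t = 0 ∨ t = 1 := by
        rcases eq_or_ne t 0 with h | h
        · exact Or.inl h
        · exact Or.inr (mul_left_cancel₀ h (by rw [← pow_two, ht, mul_one]))
      rcases this with rfl | rfl
      · exact ⟨[], by simp, Subtype.ext (by simp [wordE])⟩
      · simp only [List.mem_cons, List.not_mem_nil, or_false] at hr
        rcases hr with rfl | rfl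
        · exact ⟨[6], by simp, Subtype.ext (by simp [wordE, gE])⟩
        · exact ⟨[7], by simp, Subtype.ext (by simp [wordE, gE])⟩
    · obtain ⟨c, hc, rfl⟩ := F.e_surj t
      have hchk := List.all_eq_true.1 tripWord_check c (List.mem_range.2 hc)
      simp only [Bool.and_eq_true, beq_iff_eq] at hchk
      have hlt : ∀ b ≤ 5, ∀ a ∈ tripWord b c, a < 8 := by
        intro b hb a ha
        simp only [tripWord, List.mem_append] at ha
        rcases ha with (ha | ha) | ha <;> split_ifs at ha <;> simp at ha <;> omega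
      simp only [List.mem_cons, List.not_mem_nil, or_false] at hrs
      rcases hrs with rfl | rfl
      · exact ⟨tripWord 0 c, hlt 0 (by norm_num), GRep.ext (wordE_rep F _)
          (by rw [hchk.1]; exact trip_rep (d4p1, d4p3, d4p4) (by simp) hc)⟩
      · exact ⟨tripWord 3 c, hlt 3 (by norm_num), GRep.ext (wordE_rep F _)
          (by rw [hchk.2]; exact trip_rep (d4m1, d4m3, d4m4) (by simp) hc)⟩
  let S : Submonoid ↥(Tw K) :=
    { carrier := {g | ∃ w, (∀ a ∈ w, a < 8) ∧ wordE F w = g}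
      one_mem' := ⟨[], by simp, rfl⟩
      mul_mem' := by
        rintro a b ⟨u, hu, rfl⟩ ⟨v, hv, rfl⟩
        exact ⟨u ++ v, by simp only [List.mem_append]; rintro a (h | h) <;> [exact hu a h; exact hv a h],
          wordE_append F u v⟩ }
  have hcl : Tw K = Subgroup.closure {x | ∃ w ∈ d4Words K 2, x = (w.map fun e => Tab.xg D4Data.good e.1 e.2).prod} :=
    Tab.genSubgroup_eq D4Data.good _
  have hall : ∀ x, ∀ hx : x ∈ Tw K, (⟨x, hx⟩ : ↥(Tw K)) ∈ S := by
    intro x hx
    have hx' := hx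
    rw [hcl] at hx'
    induction hx' using Subgroup.closure_induction with
    | mem y hy => exact hgen y hx hy
    | one => exact S.one_mem
    | mul a b ha hb iha ihb =>
      have ha' : a ∈ Tw K := by rw [hcl]; exact ha
      have hb' : b ∈ Tw K := by rw [hcl]; exact hb
      exact S.mul_mem (iha ha') (ihb hb')
    | inv a ha iha =>
      have ha' : a ∈ Tw K := by rw [hcl]; exact ha
      have e : (⟨a⁻¹, hx⟩ : ↥(Tw K)) = ⟨a, ha'⟩ ^ (orderOf (⟨a, ha'⟩ : ↥(Tw K)) - 1) := by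
        rw [show (⟨a⁻¹, hx⟩ : ↥(Tw K)) = (⟨a, ha'⟩ : ↥(Tw K))⁻¹ from rfl]
        apply inv_eq_of_mul_eq_one_right
        rw [← pow_succ', Nat.sub_add_cancel (isOfFinOrder_of_finite _).orderOf_pos, pow_orderOf_eq_one]
      rw [e]
      exact S.pow_mem (iha ha') _
  exact hall g.1 g.2

end Cfsg.Agent.D4Iso
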