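import Cfsg.Agent.Lib.D4Iso.Cover

/-!
# Elements as linear maps: fixed spaces and power sums
-/

set_option autoImplicit false

namespace Cfsg.Agent.D4Iso

open Cfsg.Agent.Chev

variable {K : Type*} [Field K] [Fintype K] (F : F8 K)

/-- An element as a linear map. -/
noncomputable def lin : ↥(Tw K) →* Module.End K (V8 K) where
  toFun g := (Ψ F g).toLinearMap
  map_one' := by rw [map_one]; rfl
  map_mul' g h := by rw [map_mul]; rfl

theorem lin_inj : Function.Injective (lin F) := fun g h e =>
  Ψ_inj F (LinearEquiv.toLinearMap_injective e)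

theorem lin_apply (g : ↥(Tw K)) (v : V8 K) : lin F g v = Ψ F g v := rfl

/-- The fixed space. -/
noncomputable def fixd (g : ↥(Tw K)) : Submodule K (V8 K) := LinearMap.ker (lin F g - 1)

variable {F}

theorem mem_fixd {g : ↥(Tw K)} {v : V8 K} : v ∈ fixd F g ↔ lin F g v = v := by
  simp [fixd, LinearMap.mem_ker, sub_eq_zero]

theorem fixd_pow {g : ↥(Tw K)} (k : ℕ) : fixd F g ≤ fixd F (g ^ k) := by
  intro v hv
  rw [mem_fixd] at hv ⊢
  induction k with
  | zero => simp
  | succ k ih => rw [pow_succ, map_mul, Module.End.mul_apply, hv, ih]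

theorem fixd_conj {g h : ↥(Tw K)} :
    fixd F (h * g * h⁻¹) = (fixd F g).map (Ψ F h).toLinearMap := by
  have hcancel : ∀ w, lin F h⁻¹ (lin F h w) = w := fun w => by
    rw [← Module.End.mul_apply, ← map_mul, inv_mul_cancel, map_one]; rfl
  have hcancel' : ∀ w, lin F h (lin F h⁻¹ w) = w := fun w => by
    rw [← Module.End.mul_apply, ← map_mul, mul_inv_cancel, map_one]; rfl
  ext v
  constructor
  · intro hv
    rw [mem_fixd, map_mul, map_mul, Module.End.mul_apply, Module.End.mul_apply] at hv
    refine ⟨lin F h⁻¹ v, mem_fixd.2 ?_, hcancel' v⟩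
    conv_rhs => rw [← hv, hcancel]
  · rintro ⟨w, hw, rfl⟩
    rw [mem_fixd, map_mul, map_mul, Module.End.mul_apply, Module.End.mul_apply]
    show lin F h (lin F g (lin F h⁻¹ (lin F h w))) = lin F h w
    rw [hcancel, mem_fixd.1 hw]

theorem finrank_fixd_conj {g h : ↥(Tw K)} :
    Module.finrank K (fixd F (h * g * h⁻¹)) = Module.finrank K (fixd F g) := by
  rw [fixd_conj]
  exact LinearEquiv.finrank_map_eq (Ψ F h) (fixd F g)

theorem fixd_conj_bot {g h : ↥(Tw K)} (hb : fixd F (h * g * h⁻¹) = ⊥) : fixd F g = ⊥ := by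
  have := finrank_fixd_conj (F := F) (g := g) (h := h)
  rw [hb, finrank_bot] at this
  exact Submodule.finrank_eq_zero.1 this.symm

theorem char_two_end (F : F8 K) (f : Module.End K (V8 K)) : f + f = 0 := by
  refine LinearMap.ext fun v => ?_
  show f v + f v = 0
  funext i
  exact F.add_self _

/-- The sum of the powers has the power-sum matrix. -/
theorem psum_rep {g : ↥(Tw K)} {A : List ℕ} (hA : GRep F g A) :
    ∀ k, Rep F (fun x => (∑ i ∈ Finset.range k, lin F g ^ i) x) (psum A k)
  | 0 => by simpa [psum] using (rep_zero : Rep F (fun _ => 0) zeroM)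
  | k + 1 => by
    have h := (rep_id (F := F)).add (hA.comp (psum_rep hA k))
    unfold psum
    convert h using 1
    funext x
    rw [Finset.sum_range_succ', pow_zero, Finset.sum_congr rfl fun i _ => pow_succ' (lin F g) i, ← Finset.mul_sum]
    simp only [LinearMap.add_apply, Module.End.mul_apply, Module.End.one_apply, Function.comp]
    exact add_comm _ _

theorem psum_fixd {g : ↥(Tw K)} {k : ℕ} (hk : Odd k) {v : V8 K} (hv : v ∈ fixd F g) :
    (∑ i ∈ Finset.range k, lin F g ^ i) v = v := by
  rw [mem_fixd] at hv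
  have hpow : ∀ i, (lin F g ^ i) v = v := by
    intro i
    induction i with
    | zero => rfl
    | succ i ih => rw [pow_succ, Module.End.mul_apply, hv, ih]
  simp only [LinearMap.sum_apply, hpow, Finset.sum_const, Finset.card_range]
  obtain ⟨j, rfl⟩ := hk
  rw [add_smul, one_smul, mul_smul, two_smul]
  funext i
  simp [F.add_self]

theorem fixd_bot_of_sumZero {g : ↥(Tw K)} {A : List ℕ} (hA : GRep F g A) {k : ℕ} (hk : Odd k)
    (h : sumZero A k = true) : fixd F g = ⊥ := by
  rw [eq_bot_iff]
  intro v hv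
  obtain ⟨c, hc, rfl⟩ := d_surj (F := F) v
  simp only [sumZero, beq_iff_eq] at h
  have e := (psum_rep hA k).2 c hc
  simp only [psum_fixd hk hv, h] at e
  rw [Submodule.mem_bot, e]
  exact ((rep_zero (F := F)).2 c hc).symm

theorem finrank_span_le {p : List ℕ} : Module.finrank K (Sp F p) ≤ p.length := by
  classical
  have : {x | ∃ c ∈ p, x = F.d c} = ((p.map F.d).toFinset : Set (V8 K)) := by
    ext x; simp [eq_comm]
  rw [Sp, this]
  exact (finrank_span_finset_le_card _).trans ((List.toFinset_card_le _).trans (by simp))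

theorem fixd_le_of_sumSpan {g : ↥(Tw K)} {A : List ℕ} (hA : GRep F g A) {k : ℕ} (hk : Odd k)
    {b : List ℕ} {cf : List (List ℕ)} (h : sumSpan A k b cf = true) :
    Module.finrank K (fixd F g) ≤ b.length := by
  simp only [sumSpan, Bool.and_eq_true, Nat.beq_eq, List.all_eq_true, Nat.blt_eq] at h
  obtain ⟨⟨hlen, hb⟩, hz⟩ := h
  refine (Submodule.finrank_mono (t := Sp F b) ?_).trans finrank_span_le
  have hS := psum_rep hA k
  have hlS : (psum A k).length = 24 := by
    have := hS.1
    simp only [okM, Bool.and_eq_true, Nat.beq_eq] at this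
    exact this.1
  have hcol : ∀ m ∈ psum A k, F.d m ∈ Sp F b := by
    intro m hm
    obtain ⟨j, hj, rfl⟩ := List.getElem_of_mem hm
    have := hz ((psum A k)[j], cf[j]'(by omega)) (List.mem_iff_getElem.2 ⟨j, by simp; omega, by simp⟩)
    simp only at this
    rw [← this]
    exact (d_comb hb _).1
  have hall : ∀ (M : List ℕ), (∀ m ∈ M, F.d m ∈ Sp F b) → ∀ c, F.d (appR M c) ∈ Sp F b := by
    intro M
    induction M with
    | nil => intro _ c; simp [appR, F.dec_zero]
    | cons m ms ih =>
      intro hM c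
      rw [appR, F8.d, F.dec_xor]
      refine add_mem ?_ (ih (fun x hx => hM x (List.mem_cons_of_mem _ hx)) _)
      cases Nat.beq (c % 2) 1
      · simp [F.dec_zero]
      · exact hM m List.mem_cons_self
  intro v hv
  obtain ⟨c, hc, rfl⟩ := d_surj (F := F) v
  have e := hS.2 c hc
  simp only [psum_fixd hk hv] at e
  rw [e]
  exact hall _ hcol c

/-- A common fixed vector of two elements is killed by the product of their sums. -/
theorem inf_bot_of_mm {g h : ↥(Tw K)} {A B : List ℕ} (hA : GRep F g A) (hB : GRep F h B) {k l : ℕ}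
    (hk : Odd k) (hl : Odd l) (e0 : mm (psum A k) (psum B l) = zeroM) : fixd F g ⊓ fixd F h = ⊥ := by
  rw [eq_bot_iff]
  rintro v ⟨hv, hw⟩
  obtain ⟨c, hc, rfl⟩ := d_surj (F := F) v
  have e := ((psum_rep hA k).comp (psum_rep hB l)).2 c hc
  simp only [Function.comp, psum_fixd hl hw, psum_fixd hk hv, e0] at e
  rw [Submodule.mem_bot, e]
  exact ((rep_zero (F := F)).2 c hc).symm

end Cfsg.Agent.D4Iso
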