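import Cfsg.Agent.Lib.D4Iso.Tri

/-!
# Element orders in a module extension of `³D₄(2)`
-/

set_option autoImplicit false
set_option maxHeartbeats 1000000

namespace Cfsg.Agent.D4Iso

open Cfsg.Agent.Chev

variable {K : Type*} [Field K] [Fintype K]

/-- The facts about fixed spaces and centralisers that are used. -/
structure SpecFacts (F : F8 K) : Prop where
  nine : ∀ g : ↥(Tw K), orderOf g = 9 → fixd F g = ⊥
  thirteen : ∀ g : ↥(Tw K), orderOf g = 13 → fixd F g = ⊥
  no49 : ∀ g : ↥(Tw K), orderOf g ≠ 49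
  seven : ∀ g : ↥(Tw K), orderOf g = 7 → Module.finrank K (fixd F g) ≤ 2
  three : ∀ g : ↥(Tw K), orderOf g = 3 → Module.finrank K (fixd F g) ≤ 4
  four : ∀ g c : ↥(Tw K), orderOf g = 3 → 3 ≤ Module.finrank K (fixd F g) → c * g = g * c → c ^ 4 = 1 → c ^ 2 = 1
  twentyone : ∀ g c : ↥(Tw K), orderOf g = 3 → orderOf c = 7 → c * g = g * c → fixd F g ⊓ fixd F c = ⊥
  wit : ∀ m ∈ [2, 4, 6, 8, 12, 14, 28], ∃ g : ↥(Tw K), orderOf g = m

theorem geom_split {A : Type*} [Semiring A] (x : A) (a b : ℕ) :
    ∑ i ∈ Finset.range (a * b), x ^ i = (∑ j ∈ Finset.range a, x ^ j) * ∑ i ∈ Finset.range b, (x ^ a) ^ i := by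
  induction b with
  | zero => simp
  | succ b ih =>
    rw [Nat.mul_succ, Finset.sum_range_add, ih, Finset.sum_range_succ (fun i => (x ^ a) ^ i) b, mul_add]
    congr 1
    rw [Finset.sum_mul]
    exact Finset.sum_congr rfl fun j _ => by rw [← pow_mul, ← pow_add, add_comm j]

theorem geom_two {A : Type*} [Ring A] (h2 : ∀ y : A, y + y = 0) (x : A) (a : ℕ) :
    ∑ j ∈ Finset.range (2 ^ a), x ^ j = (x - 1) ^ (2 ^ a - 1) := by
  have hneg : ∀ y : A, -y = y := fun y => neg_eq_of_add_eq_zero_left (h2 y)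
  have hsub : x - 1 = x + 1 := by rw [sub_eq_add_neg, hneg]
  have hp : ∀ a : ℕ, (x + 1) ^ (2 ^ a) = x ^ (2 ^ a) + 1 := by
    intro a
    induction a with
    | zero => simp
    | succ a ih =>
      rw [pow_succ, pow_mul, ih, pow_two, add_mul, mul_add, mul_add, mul_one, one_mul, one_mul, pow_mul, pow_two]
      rw [add_assoc, ← add_assoc (x ^ 2 ^ a) (x ^ 2 ^ a) 1, h2, zero_add]
  rw [hsub]
  induction a with
  | zero => simp
  | succ a ih =>
    rw [show 2 ^ (a + 1) = 2 ^ a + 2 ^ a by rw [pow_succ]; omega, Finset.sum_range_add]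
    simp only [pow_add]
    rw [← Finset.mul_sum, ← one_add_mul, ih]
    rw [show 2 ^ a + 2 ^ a - 1 = 2 ^ a + (2 ^ a - 1) by have := Nat.one_le_two_pow (n := a); omega, pow_add, hp,
      add_comm 1]

theorem nilpotent_kills (f : Module.End K (V8 K)) (W : Submodule K (V8 K)) (hW : ∀ w ∈ W, f w ∈ W) {k d : ℕ}
    (hk : ∀ w ∈ W, (f ^ k) w = 0) (hd : Module.finrank K W ≤ d) : ∀ w ∈ W, (f ^ d) w = 0 := by
  let f' : Module.End K W := f.restrict hW
  have hpow : ∀ (j : ℕ) (w : W), (((f' ^ j) w : W) : V8 K) = (f ^ j) w.1 := by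
    intro j
    induction j with
    | zero => intro w; rfl
    | succ j ih =>
      intro w
      rw [pow_succ', pow_succ', Module.End.mul_apply, Module.End.mul_apply, ← ih w]
      rfl
  have hnil : IsNilpotent f' := ⟨k, LinearMap.ext fun w => Subtype.ext (by rw [hpow, hk _ w.2]; rfl)⟩
  have hch := LinearMap.aeval_self_charpoly f'
  rw [(LinearMap.isNilpotent_iff_charpoly f').1 hnil, map_pow, Polynomial.aeval_X] at hch
  intro w hw
  have : f' ^ d = 0 := by
    obtain ⟨e, rfl⟩ := Nat.exists_eq_add_of_le hd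
    rw [pow_add, hch, zero_mul]
  have h := congrArg Subtype.val (LinearMap.congr_fun this ⟨w, hw⟩)
  rw [hpow] at h
  exact h

theorem odd_dvd {n : ℕ} (hd : n ∣ 211341312) (ho : Odd n) (h9 : ¬ 9 ∣ n) (h13 : ¬ 13 ∣ n) (h49 : ¬ 49 ∣ n) :
    n = 1 ∨ n = 3 ∨ n = 7 ∨ n = 21 := by
  have hn0 : n ≠ 0 := by rintro rfl; simp at ho
  have h21 : n ∣ 21 := by
    refine Nat.dvd_of_mul_dvd_mul_left (Nat.pos_of_ne_zero (by norm_num : (1 : ℕ) ≠ 0)) ?_
    rw [one_mul, one_mul]
    refine (Nat.dvd_iff_prime_pow_dvd_dvd _ _).2 fun p k hp hpk => ?_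
    rcases Nat.eq_zero_or_pos k with rfl | hk
    · simp
    have hpn : p ∣ n := (dvd_pow_self p hk.ne').trans hpk
    have hpG : p ∣ 2 ^ 12 * (3 ^ 4 * (7 ^ 2 * 13)) := by
      rw [show (2 : ℕ) ^ 12 * (3 ^ 4 * (7 ^ 2 * 13)) = 211341312 by norm_num]; exact hpn.trans hd
    rcases hp.dvd_mul.1 hpG with h | h
    · rw [(Nat.prime_dvd_prime_iff_eq hp Nat.prime_two).1 (hp.dvd_of_dvd_pow h)] at hpn
      exact absurd hpn (Nat.two_dvd_ne_zero.2 (Nat.odd_iff.1 ho))
    rcases hp.dvd_mul.1 h with h | h
    · have hp3 := (Nat.prime_dvd_prime_iff_eq hp Nat.prime_three).1 (hp.dvd_of_dvd_pow h)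
      subst hp3
      rcases Nat.lt_or_ge k 2 with hk2 | hk2
      · rw [show k = 1 by omega]; norm_num
      · exact absurd ((pow_dvd_pow 3 hk2).trans hpk) h9
    rcases hp.dvd_mul.1 h with h | h
    · have hp7 := (Nat.prime_dvd_prime_iff_eq hp (by norm_num : Nat.Prime 7)).1 (hp.dvd_of_dvd_pow h)
      subst hp7
      rcases Nat.lt_or_ge k 2 with hk2 | hk2
      · rw [show k = 1 by omega]; norm_num
      · exact absurd ((pow_dvd_pow 7 hk2).trans hpk) h49
    · rw [(Nat.prime_dvd_prime_iff_eq hp (by norm_num : Nat.Prime 13)).1 h] at hpn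
      exact absurd hpn h13
  have : n ≤ 21 := Nat.le_of_dvd (by norm_num) h21
  interval_cases n <;> first | omega | norm_num at h21

variable {F : F8 K}

theorem order_exists {g : ↥(Tw K)} (hfin : orderOf g ≠ 0) {d : ℕ} (hd : d ∣ orderOf g) :
    orderOf (g ^ (orderOf g / d)) = d := by
  rw [orderOf_pow' _ (Nat.div_pos (Nat.le_of_dvd (Nat.pos_of_ne_zero hfin) hd)
    (Nat.pos_of_dvd_of_pos hd (Nat.pos_of_ne_zero hfin))).ne', Nat.gcd_eq_right (Nat.div_dvd_of_dvd hd),
    Nat.div_div_self hd hfin]

/-- A power sum is non-zero only if twice the order is an element order. -/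
theorem double_order (S : SpecFacts F) (g : ↥(Tw K))
    (hN : ∑ i ∈ Finset.range (orderOf g), lin F g ^ i ≠ 0) :
    ∃ x : ↥(Tw K), orderOf x = 2 * orderOf g := by
  classical
  haveI : Finite ↥(Tw K) := Nat.finite_of_card_ne_zero (by rw [card_Tw F]; norm_num)
  have hm0 : orderOf g ≠ 0 := (isOfFinOrder_of_finite g).orderOf_pos.ne'
  obtain ⟨a, n, hn, hm⟩ := Nat.exists_eq_two_pow_mul_odd hm0
  have hnd : n ∣ orderOf g := ⟨2 ^ a, by rw [hm, mul_comm]⟩
  have hnG : n ∣ 211341312 := by rw [← card_Tw F]; exact hnd.trans (orderOf_dvd_natCard g)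
  set s := g ^ (2 ^ a) with hs
  have hso : orderOf s = n := by
    have := order_exists hm0 hnd
    rwa [hm, Nat.mul_div_cancel _ hn.pos] at this
  set W := fixd F s with hWdef
  set Q := ∑ j ∈ Finset.range (2 ^ a), lin F g ^ j with hQ
  have hQW : ∃ w ∈ W, Q w ≠ 0 := by
    by_contra hne
    push Not at hne
    refine hN (LinearMap.ext fun v => ?_)
    rw [hm, geom_split, Module.End.mul_apply]
    refine hne _ (mem_fixd.2 ?_)
    have hgeom := mul_geom_sum (lin F g ^ 2 ^ a) n
    have h1 : (lin F g ^ 2 ^ a) ^ n = 1 := by rw [← pow_mul, ← hm, ← map_pow, pow_orderOf_eq_one, map_one]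
    rw [h1, sub_self] at hgeom
    have := LinearMap.congr_fun hgeom v
    rw [Module.End.mul_apply, LinearMap.sub_apply, LinearMap.zero_apply, sub_eq_zero, Module.End.one_apply] at this
    rw [hs, map_pow]
    exact this
  have hWne : W ≠ ⊥ := by
    obtain ⟨w, hw, hQw⟩ := hQW
    intro h
    rw [h, Submodule.mem_bot] at hw
    exact hQw (by rw [hw, map_zero])
  have hsub : ∀ d, d ∣ n → orderOf (s ^ (n / d)) = d := by
    intro d hd
    have h0 : orderOf s ≠ 0 := by rw [hso]; exact hn.pos.ne'
    have := order_exists h0 (hso.symm ▸ hd : d ∣ orderOf s)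
    rwa [hso] at this
  have hbot : ∀ k, fixd F (s ^ k) = ⊥ → False := fun k h => hWne (le_bot_iff.1 (h ▸ fixd_pow k))
  have h9 : ¬ 9 ∣ n := fun h => hbot _ (S.nine _ (hsub 9 h))
  have h13 : ¬ 13 ∣ n := fun h => hbot _ (S.thirteen _ (hsub 13 h))
  have h49 : ¬ 49 ∣ n := fun h => S.no49 _ (hsub 49 h)
  -- the two-part
  have h2part : ∃ b, orderOf (g ^ n) = 2 ^ b := ⟨a, by
    have := order_exists hm0 (Dvd.intro n hm.symm : 2 ^ a ∣ orderOf g)
    rwa [hm, Nat.mul_div_cancel_left _ (pow_pos (by norm_num : 0 < 2) a)] at this⟩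
  have h7 := two_elt F h2part
  have hdiff := geom_two (char_two_end F) (lin F (g ^ n)) 3
  have ha3 : a ≤ 3 := by
    have h8 : lin F ((g ^ n) ^ 8) = 1 := by
      have e := mul_geom_sum (lin F (g ^ n)) (2 ^ 3)
      rw [hdiff, show 2 ^ 3 - 1 = 7 from rfl, h7, mul_zero] at e
      rw [map_pow]
      exact (sub_eq_zero.1 e.symm)
    have h8' : (g ^ n) ^ 8 = 1 := lin_inj F (by rw [h8, map_one])
    rw [← pow_mul] at h8'
    have hdv := orderOf_dvd_of_pow_eq_one h8'
    rw [hm, mul_comm n 8] at hdv
    have := Nat.le_of_dvd (by norm_num) (Nat.dvd_of_mul_dvd_mul_right hn.pos hdv)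
    by_contra hlt
    have h16 : 2 ^ 4 ≤ 2 ^ a := Nat.pow_le_pow_right (by norm_num) (by omega)
    omega
  have hgW : ∀ w ∈ W, (lin F g - 1) w ∈ W := by
    intro w hw
    rw [LinearMap.sub_apply, Module.End.one_apply]
    refine sub_mem (mem_fixd.2 ?_) hw
    rw [← Module.End.mul_apply, ← map_mul, hs, ← pow_succ, pow_succ', map_mul, Module.End.mul_apply, ← hs,
      mem_fixd.1 hw]
  have hnilW : ∀ w ∈ W, ((lin F g - 1 : Module.End K (V8 K)) ^ (2 ^ a)) w = 0 := by
    intro w hw
    have e : (lin F g - 1) ^ (2 ^ a) = lin F s - 1 := by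
      have h := mul_geom_sum (lin F g) (2 ^ a)
      rw [geom_two (char_two_end F), ← pow_succ', Nat.sub_add_cancel Nat.one_le_two_pow] at h
      rw [h, hs, map_pow]
    rw [e, LinearMap.sub_apply, Module.End.one_apply, mem_fixd.1 hw, sub_self]
  have hdim : ∀ d, Module.finrank K W ≤ d → d ≤ 2 ^ a - 1 → False := by
    intro d hd hda
    obtain ⟨w, hw, hQw⟩ := hQW
    apply hQw
    rw [hQ, geom_two (char_two_end F), ← Nat.sub_add_cancel hda, pow_add, Module.End.mul_apply,
      nilpotent_kills _ W hgW hnilW hd w hw, map_zero]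
  rw [hm]
  rcases odd_dvd hnG hn h9 h13 h49 with rfl | rfl | rfl | rfl
  · have ha : a ≤ 2 := by
      by_contra hlt
      obtain ⟨w, -, hQw⟩ := hQW
      apply hQw
      have : a = 3 := by omega
      subst this
      rw [hQ, geom_two (char_two_end F), show 2 ^ 3 - 1 = 7 from rfl]
      have := LinearMap.congr_fun h7 w
      rwa [pow_one] at this
    interval_cases a
    · exact S.wit 2 (by simp)
    · exact S.wit 4 (by simp)
    · exact S.wit 8 (by simp)
  · have ha : a ≤ 1 := by
      by_contra hlt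
      rcases le_or_gt (Module.finrank K W) 2 with h2 | h2
      · exact hdim 3 (by omega) (by
          have : 2 ^ 2 ≤ 2 ^ a := Nat.pow_le_pow_right (by norm_num) (by omega)
          omega)
      · rcases Nat.lt_or_ge a 3 with ha2 | ha2
        · have : a = 2 := by omega
          subst this
          have hc := S.four s (g ^ 3) hso (by rw [← hWdef]; omega) (by rw [hs]; exact Commute.pow_pow (Commute.refl g) _ _)
            (by rw [← pow_mul]; exact orderOf_dvd_iff_pow_eq_one.1 (by rw [hm]; norm_num))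
          rw [← pow_mul] at hc
          have := orderOf_dvd_of_pow_eq_one hc
          rw [hm] at this
          norm_num at this
        · have : a = 3 := by omega
          subst this
          exact hdim 4 (S.three s hso) (by norm_num)
    interval_cases a
    · exact S.wit 6 (by simp)
    · exact S.wit 12 (by simp)
  · have ha : a ≤ 1 := by
      by_contra hlt
      exact hdim 2 (S.seven s hso) (by
        have : 2 ^ 2 ≤ 2 ^ a := Nat.pow_le_pow_right (by norm_num) (by omega)
        omega)
    interval_cases a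
    · exact S.wit 14 (by simp)
    · exact S.wit 28 (by simp)
  · exfalso
    have h3 := hsub 3 (by norm_num)
    have h7' := hsub 7 (by norm_num)
    have hb := S.twentyone _ _ h3 h7' (by rw [← pow_add, ← pow_add, add_comm])
    exact hWne (le_bot_iff.1 (hb ▸ le_inf (fixd_pow _) (fixd_pow _)))

/-- The coordinatewise action. -/
noncomputable def actV (F : F8 K) (k : ℕ) : ↥(Tw K) →* MulAut (Multiplicative (Fin k → V8 K)) where
  toFun g := AddEquiv.toMultiplicative (LinearEquiv.piCongrRight fun _ : Fin k => Ψ F g).toAddEquiv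
  map_one' := by
    refine MulEquiv.ext fun v => ?_
    apply Multiplicative.toAdd.injective
    funext t
    show Ψ F 1 (Multiplicative.toAdd v t) = _
    rw [map_one]
    rfl
  map_mul' g h := by
    refine MulEquiv.ext fun v => ?_
    apply Multiplicative.toAdd.injective
    funext t
    show Ψ F (g * h) (Multiplicative.toAdd v t) = _
    rw [map_mul]
    rfl

theorem semi_pow (F : F8 K) (k : ℕ) (x : Multiplicative (Fin k → V8 K) ⋊[actV F k] ↥(Tw K)) :
    ∀ j : ℕ, (x ^ j).right = x.right ^ j ∧ ∀ t, Multiplicative.toAdd (x ^ j).left t =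
      (∑ i ∈ Finset.range j, lin F x.right ^ i) (Multiplicative.toAdd x.left t)
  | 0 => by simp [toAdd_one]
  | j + 1 => by
    obtain ⟨h1, h2⟩ := semi_pow F k x j
    rw [pow_succ']
    refine ⟨by rw [SemidirectProduct.mul_right, h1, pow_succ'], fun t => ?_⟩
    rw [SemidirectProduct.mul_left, toAdd_mul, Pi.add_apply]
    show Multiplicative.toAdd x.left t + Ψ F x.right (Multiplicative.toAdd (x ^ j).left t) = _
    rw [h2 t, Finset.sum_range_succ', pow_zero, Finset.sum_congr rfl fun i _ => pow_succ' (lin F x.right) i,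
      ← Finset.mul_sum, LinearMap.add_apply, Module.End.mul_apply, Module.End.one_apply, add_comm, lin_apply]

/-- A copy of `Fin n` without arithmetic. -/
def Tag (n : ℕ) : Type := Fin n

instance (n : ℕ) : Fintype (Tag n) := inferInstanceAs (Fintype (Fin n))

/-- Groups of arbitrarily large order with the same element orders. -/
theorem isospectral (S : SpecFacts F) (N : ℕ) :
    ∃ (H : Type) (_ : Group H) (_ : Fintype H), N < Fintype.card H ∧
      Set.range (orderOf : H → ℕ) = Set.range (orderOf : ↥(Tw K) → ℕ) := by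
  classical
  haveI : Finite ↥(Tw K) := Nat.finite_of_card_ne_zero (by rw [card_Tw F]; norm_num)
  let k := N + 1
  let H0 := Multiplicative (Fin k → V8 K) ⋊[actV F k] ↥(Tw K)
  haveI : Finite H0 := Finite.of_equiv _ SemidirectProduct.equivProd.symm
  let n := Nat.card H0
  let e : Tag n ≃ H0 := (Finite.equivFin H0).symm
  letI : Group (Tag n) := e.group
  refine ⟨Tag n, inferInstance, inferInstance, ?_, ?_⟩
  · rw [show Fintype.card (Tag n) = n from Fintype.card_fin n]
    show N < Nat.card H0
    rw [Nat.card_congr SemidirectProduct.equivProd, Nat.card_prod, card_Tw F,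
      Nat.card_congr Multiplicative.toAdd, Nat.card_fun]
    haveI : Nontrivial (V8 K) := Pi.nontrivial
    have h2 : 2 ≤ Nat.card (V8 K) := Finite.one_lt_card
    have : N < Nat.card (V8 K) ^ Nat.card (Fin k) := by
      rw [Nat.card_fin]
      exact (Nat.lt_succ_self N).trans (Nat.lt_pow_self h2)
    nlinarith
  · have hord : ∀ y : Tag n, orderOf y = orderOf (e y) := fun y => (orderOf_injective (Equiv.mulEquiv e).toMonoidHom
      (Equiv.mulEquiv e).injective y).symm
    apply Set.Subset.antisymm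
    · rintro _ ⟨y, rfl⟩
      rw [hord]
      set x : H0 := e y
      have hsp := semi_pow F k x (orderOf x.right)
      have hdv : orderOf x.right ∣ orderOf x := orderOf_map_dvd SemidirectProduct.rightHom x
      set v := x ^ orderOf x.right with hv
      have hvr : v.right = 1 := by rw [hsp.1, pow_orderOf_eq_one]
      by_cases hz : v = 1
      · exact ⟨x.right, Nat.dvd_antisymm hdv (orderOf_dvd_of_pow_eq_one hz)⟩
      · have hv2 : v ^ 2 = 1 := by
          obtain ⟨r1, r2⟩ := semi_pow F k v 2
          refine SemidirectProduct.ext ?_ (by rw [r1, hvr, one_pow]; rfl)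
          apply Multiplicative.toAdd.injective
          funext t
          rw [r2, hvr, map_one]
          simp only [one_pow, Finset.sum_const, Finset.card_range, two_smul, LinearMap.add_apply, Module.End.one_apply]
          funext i
          exact F.add_self _
        have hne : ∑ i ∈ Finset.range (orderOf x.right), lin F x.right ^ i ≠ 0 := by
          intro h0
          apply hz
          refine SemidirectProduct.ext ?_ hvr
          apply Multiplicative.toAdd.injective
          funext t
          rw [hsp.2 t, h0]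
          rfl
        obtain ⟨g, hg⟩ := double_order S x.right hne
        refine ⟨g, hg.trans ?_⟩
        obtain ⟨c, hc⟩ := hdv
        have hm0 : 0 < orderOf x.right := (isOfFinOrder_of_finite _).orderOf_pos
        have hdvd2 : orderOf x ∣ orderOf x.right * 2 := orderOf_dvd_of_pow_eq_one (by rw [pow_mul, ← hv, hv2])
        rw [hc] at hdvd2
        have hc2 : c ∣ 2 := Nat.dvd_of_mul_dvd_mul_left hm0 hdvd2
        have hc1 : c ≠ 1 := fun h1 => hz (by
          rw [hv]
          exact orderOf_dvd_iff_pow_eq_one.1 (by rw [hc, h1, mul_one]))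
        have : c = 2 := ((Nat.dvd_prime Nat.prime_two).1 hc2).resolve_left hc1
        rw [hc, this, mul_comm]
    · rintro _ ⟨g, rfl⟩
      refine ⟨e.symm (SemidirectProduct.inr g), ?_⟩
      rw [hord, Equiv.apply_symm_apply]
      exact orderOf_injective _ SemidirectProduct.inr_injective g

end Cfsg.Agent.D4Iso
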