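import Cfsg.Agent.Lib.D4Iso.Field
import Cfsg.Agent.Lib.Lie.NatRepD4
import Cfsg.Agent.Lib.Lie.TwD4

/-!
# The eight-dimensional representation of `³D₄(2)` on bit codes
-/

set_option autoImplicit false
set_option maxRecDepth 8000

namespace Cfsg.Agent.D4Iso

open Cfsg.Lie
open Cfsg.Agent.Chev
open Cfsg.Agent.Orth (qPlus oGroup par)

variable (K : Type*) [Field K]

/-- The space. -/
abbrev V8 : Type _ := Fin 4 ⊕ Fin 4 → K

/-- The group over the tables. -/
noncomputable abbrev Tw : Subgroup (GL D4Data.tab.D.Idx K) := TwD4.tw K 2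

/-- The frame. -/
abbrev fr : ℕ → V8 K := D4Data.frame8 K

/-- The root element in the natural representation. -/
noncomputable abbrev natX (r : ℕ) (t : K) : oGroup (qPlus K 4) :=
  Tab.natEl D4Data.tab D4Data.nat (qPlus K 4) (fr K) r t

theorem gW : D4Data.tab.GoodW [[4, 4, 2, 2], [4, 8, 4, 4], [2, 4, 4, 2], [2, 4, 2, 4]]
    [(6, 22, 0), (1, 23, 0), (3, 22, 0), (2, 22, 0)] :=
  ⟨⟨⟨D4Data.good, by decide +kernel⟩, by decide +kernel⟩, by decide +kernel⟩

theorem gS : D4Data.tab.GoodS := ⟨⟨D4Data.good, by decide +kernel⟩, by decide +kernel, by decide +kernel⟩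

variable {K}

/-- The position of a frame index. -/
def pos (i : ℕ) : Fin 4 ⊕ Fin 4 :=
  if i % 2 = 0 then Sum.inl (Fin.ofNat 4 (i / 2)) else Sum.inr (Fin.ofNat 4 (i / 2))

theorem fr_pos (j : ℕ) (hj : j < 8) (i : ℕ) (hi : i < 8) :
    fr K j (pos i) = if i = j then 1 else 0 := by
  interval_cases j <;> interval_cases i <;> simp [pos, fr, D4Data.frame8, Pi.single_apply] <;> decide

theorem pos_surj : ∀ s : Fin 4 ⊕ Fin 4, ∃ i < 8, pos i = s := by decide +kernel

theorem frame_indep {c : ℕ → K} (h : ∑ j ∈ Finset.range 8, c j • fr K j = 0) : ∀ i < 8, c i = 0 := by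
  intro i hi
  have := congrFun h (pos i)
  rw [Finset.sum_apply, Finset.sum_congr rfl fun j hj => by
    rw [Pi.smul_apply, fr_pos j (Finset.mem_range.1 hj) i hi]] at this
  simpa [hi] using this

theorem frame_expand (x : V8 K) : x = ∑ j ∈ Finset.range 8, x (pos j) • fr K j := by
  funext s
  obtain ⟨i, hi, rfl⟩ := pos_surj s
  rw [Finset.sum_apply, Finset.sum_congr rfl fun j hj => by
    rw [Pi.smul_apply, fr_pos j (Finset.mem_range.1 hj) i hi]]
  simp [hi]

theorem natX_apply {r j : ℕ} (hr : r < 24) (hj : j < 8) (t : K) :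
    (natX K r t).1 (fr K j) = fr K j + ((D4Data.nat.ε r * D4Data.nat.pz j (D4Data.nat.u r) : ℤ) : K) •
      (t • fr K (D4Data.nat.w r)) - ((D4Data.nat.ε r * D4Data.nat.pz j (D4Data.nat.w r) : ℤ) : K) •
      (t • fr K (D4Data.nat.u r)) := by
  have hq : D4Data.nat.qz (D4Data.nat.w r) = 0 := by
    revert r; decide +kernel
  rw [Tab.natEl_apply (D4Data.natSys K) (by exact hr) (by show j ≤ 2 * 4; omega)]
  simp [Tab.NatData.col, hq, smul_smul, mul_comm, sub_eq_add_neg, add_assoc]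

theorem natX_frame [CharP K 2] {r j : ℕ} (hr : r < 24) (hj : j < 8) (t : K) :
    (natX K r t).1 (fr K j) = fr K j + (if j = D4Data.nat.u r ^^^ 1 then t • fr K (D4Data.nat.w r) else 0) +
      (if j = D4Data.nat.w r ^^^ 1 then t • fr K (D4Data.nat.u r) else 0) := by
  have hpz : ∀ r < 24, ∀ j < 8,
      D4Data.nat.pz j (D4Data.nat.u r) = (if j = D4Data.nat.u r ^^^ 1 then 1 else 0) ∧
      D4Data.nat.pz j (D4Data.nat.w r) = (if j = D4Data.nat.w r ^^^ 1 then 1 else 0) ∧
      (D4Data.nat.ε r = 1 ∨ D4Data.nat.ε r = -1) := by decide +kernel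
  obtain ⟨h1, h2, h3⟩ := hpz r hr j hj
  have heps : ((D4Data.nat.ε r : ℤ) : K) = 1 := by rcases h3 with h | h <;> simp [h, CharTwo.neg_eq]
  rw [natX_apply hr hj, Int.cast_mul, Int.cast_mul, h1, h2, heps, sub_eq_add_neg]
  split_ifs <;> simp [CharTwo.neg_eq, ← neg_smul] <;> abel

theorem root_shape : ∀ r < 24, D4Data.nat.u r < 8 ∧ D4Data.nat.w r < 8 ∧ D4Data.nat.u r ^^^ 1 < 8 ∧
    D4Data.nat.w r ^^^ 1 < 8 ∧ D4Data.nat.u r ≠ D4Data.nat.w r := by decide +kernel

theorem natX_eval [CharP K 2] {r : ℕ} (hr : r < 24) (t : K) (x : V8 K) :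
    (natX K r t).1 x = x + (x (pos (D4Data.nat.u r ^^^ 1)) * t) • fr K (D4Data.nat.w r) +
      (x (pos (D4Data.nat.w r ^^^ 1)) * t) • fr K (D4Data.nat.u r) := by
  obtain ⟨-, -, hp, hq, -⟩ := root_shape r hr
  conv_lhs => rw [frame_expand x, map_sum]
  rw [Finset.sum_congr rfl fun j hj => by rw [map_smul, natX_frame hr (Finset.mem_range.1 hj)]]
  simp only [smul_add, smul_ite, smul_zero, Finset.sum_add_distrib, Finset.sum_ite_eq', Finset.mem_range, hp, hq,
    if_true, smul_smul]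
  rw [← frame_expand x]

/-- An operator commuting with every root element is scalar. -/
theorem scalar_of_comm [CharP K 2] (z : V8 K →ₗ[K] V8 K)
    (hz : ∀ r < 24, ∀ x, z ((natX K r 1).1 x) = (natX K r 1).1 (z x)) :
    ∀ x, z x = z (fr K 0) (pos 0) • x := by
  set M : ℕ → ℕ → K := fun a i => z (fr K a) (pos i) with hM
  have key : ∀ r < 24,
      (∀ i < 8, M (D4Data.nat.w r) i = (if i = D4Data.nat.w r then M (D4Data.nat.u r ^^^ 1) (D4Data.nat.u r ^^^ 1) else 0) +
        (if i = D4Data.nat.u r then M (D4Data.nat.u r ^^^ 1) (D4Data.nat.w r ^^^ 1) else 0)) ∧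
      (∀ i < 8, M (D4Data.nat.u r) i = (if i = D4Data.nat.w r then M (D4Data.nat.w r ^^^ 1) (D4Data.nat.u r ^^^ 1) else 0) +
        (if i = D4Data.nat.u r then M (D4Data.nat.w r ^^^ 1) (D4Data.nat.w r ^^^ 1) else 0)) := by
    intro r hr
    obtain ⟨hu, hw, hp, hq, huw⟩ := root_shape r hr
    have hne : D4Data.nat.u r ^^^ 1 ≠ D4Data.nat.w r ^^^ 1 := fun e => huw (by
      have := congrArg (· ^^^ 1) e
      simpa [Nat.xor_assoc, Nat.xor_self] using this)
    constructor <;> intro i hi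
    · have h := hz r hr (fr K (D4Data.nat.u r ^^^ 1))
      rw [natX_eval hr, natX_eval hr, fr_pos _ hp _ hp, fr_pos _ hp _ hq, if_pos rfl, if_neg hne.symm, zero_mul,
        zero_smul, add_zero, mul_one, one_smul, map_add, add_assoc, add_right_inj] at h
      simp only [M]
      rw [h, Pi.add_apply, Pi.smul_apply, Pi.smul_apply, fr_pos _ hw _ hi, fr_pos _ hu _ hi]
      simp
    · have h := hz r hr (fr K (D4Data.nat.w r ^^^ 1))
      rw [natX_eval hr, natX_eval hr, fr_pos _ hq _ hp, fr_pos _ hq _ hq, if_pos rfl, if_neg hne, zero_mul,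
        zero_smul, add_zero, mul_one, one_smul, map_add, add_assoc, add_right_inj] at h
      simp only [M]
      rw [h, Pi.add_apply, Pi.smul_apply, Pi.smul_apply, fr_pos _ hw _ hi, fr_pos _ hu _ hi]
      simp
  have off : ∀ a < 8, ∀ i < 8, i ≠ a → M a i = 0 := by
    have hwit' : ∀ a : Fin 8, ∀ i : Fin 8, i ≠ a → ∃ r : Fin 24,
        (D4Data.nat.w r.1 = a.1 ∧ D4Data.nat.u r.1 ≠ i.1) ∨ (D4Data.nat.u r.1 = a.1 ∧ D4Data.nat.w r.1 ≠ i.1) := by
      decide +kernel
    have hwit : ∀ a < 8, ∀ i < 8, i ≠ a → ∃ r < 24,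
        (D4Data.nat.w r = a ∧ D4Data.nat.u r ≠ i) ∨ (D4Data.nat.u r = a ∧ D4Data.nat.w r ≠ i) := fun a ha i hi h => by
      obtain ⟨r, hr⟩ := hwit' ⟨a, ha⟩ ⟨i, hi⟩ (fun e => h (congrArg Fin.val e))
      exact ⟨r.1, r.2, hr⟩
    intro a ha i hi hia
    obtain ⟨r, hr, ⟨rfl, h⟩ | ⟨rfl, h⟩⟩ := hwit a ha i hi hia
    · rw [(key r hr).1 i hi, if_neg hia, if_neg (Ne.symm h), add_zero]
    · rw [(key r hr).2 i hi, if_neg (Ne.symm h), if_neg hia, add_zero]
  have e1 : ∀ r < 24, M (D4Data.nat.w r) (D4Data.nat.w r) = M (D4Data.nat.u r ^^^ 1) (D4Data.nat.u r ^^^ 1) := by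
    intro r hr
    obtain ⟨-, hw, -, -, huw⟩ := root_shape r hr
    rw [(key r hr).1 _ hw, if_pos rfl, if_neg huw.symm, add_zero]
  have e2 : ∀ r < 24, M (D4Data.nat.u r) (D4Data.nat.u r) = M (D4Data.nat.w r ^^^ 1) (D4Data.nat.w r ^^^ 1) := by
    intro r hr
    obtain ⟨hu, -, -, -, huw⟩ := root_shape r hr
    rw [(key r hr).2 _ hu, if_neg huw, if_pos rfl, zero_add]
  have diag : ∀ a < 8, M a a = M 0 0 := by
    have a3 : M 3 3 = M 0 0 := e1 0 (by norm_num)
    have a5 : M 5 5 = M 0 0 := e1 1 (by norm_num)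
    have a6 : M 6 6 = M 0 0 := e1 2 (by norm_num)
    have a7 : M 7 7 = M 0 0 := e1 3 (by norm_num)
    have a4 : M 4 4 = M 0 0 := e1 4 (by norm_num)
    have a2 : M 2 2 = M 0 0 := e1 5 (by norm_num)
    have a1 : M 1 1 = M 0 0 := (e2 0 (by norm_num)).trans a2
    intro a ha
    interval_cases a <;> first | rfl | assumption
  intro x
  have hfr : ∀ j < 8, z (fr K j) = M 0 0 • fr K j := by
    intro j hj
    funext s
    obtain ⟨i, hi, rfl⟩ := pos_surj s
    rw [Pi.smul_apply, fr_pos j hj i hi]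
    split
    · next h => subst h; simpa using diag i hi
    · next h => simpa using off j hj i hi h
  conv_lhs => rw [frame_expand x, map_sum, Finset.sum_congr rfl fun j hj => by
    rw [map_smul, hfr j (Finset.mem_range.1 hj), smul_comm], ← Finset.smul_sum, ← frame_expand x]

/-- The natural representation of the Chevalley group. -/
theorem exists_phi (h2 : ringChar K = 2) :
    ∃ φ : ↥(D4Data.tab.D.group K) →* (V8 K ≃ₗ[K] V8 K), Function.Injective φ ∧
      ∀ r < 24, ∀ t : K, φ ⟨Tab.xg D4Data.good r t, Tab.xg_mem_group D4Data.good r t⟩ = (natX K r t).1 := by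
  haveI : CharP K 2 := ringChar.of_eq h2
  have hq := D4Data.natSys K
  obtain ⟨ρ, hρ⟩ := Tab.exists_natHom hq
  let θ := Tab.θG (gW).toGoodA K
  have hker : θ.ker ≤ ρ.ker := by
    intro x hx
    rw [Tab.θG_ker, Tab.ker_eq_center gW] at hx
    have hcomm : ∀ y, ρ x * ρ y = ρ y * ρ x := fun y => by
      rw [← map_mul, ← map_mul, Subgroup.mem_center_iff.1 hx y]
    set z : V8 K →ₗ[K] V8 K := (ρ x).1.toLinearMap with hz
    have hs := scalar_of_comm z fun r hr y => by
      have h := congrArg (fun g => g.1 y) (hcomm (D4Data.tab.D.stGen K r 1))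
      rw [hρ r (by exact hr) 1] at h
      exact h
    set c := z (fr K 0) (pos 0)
    have hQ := (ρ x).2 (fr K 0 + fr K 1)
    rw [show (ρ x).1 (fr K 0 + fr K 1) = c • (fr K 0 + fr K 1) from hs _, QuadraticMap.map_smul] at hQ
    have hval : qPlus K 4 (fr K 0 + fr K 1) = 1 := by
      simp [Orth.coe_qPlus, Cfsg.quadFormPlus, fr, D4Data.frame8, Fin.sum_univ_four]
    rw [hval, smul_eq_mul, mul_one] at hQ
    have hc : c = 1 := by
      have : (c + 1) * (c + 1) = 0 := by
        rw [show (c + 1) * (c + 1) = c * c + 1 + (c + c) by ring, hQ, CharTwo.add_self_eq_zero,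
          CharTwo.add_self_eq_zero, add_zero]
      exact CharTwo.add_eq_zero.1 (mul_self_eq_zero.1 this)
    refine MonoidHom.mem_ker.2 (Subtype.ext (LinearEquiv.ext fun y => ?_))
    rw [show (ρ x).1 y = c • y from hs y, hc, one_smul]
    rfl
  let φ : ↥(D4Data.tab.D.group K) →* (V8 K ≃ₗ[K] V8 K) :=
    (oGroup (qPlus K 4)).subtype.comp (θ.liftOfSurjective (Tab.θG_surjective _) ⟨ρ, hker⟩)
  have hφ : ∀ r < 24, ∀ t : K, φ ⟨Tab.xg D4Data.good r t, Tab.xg_mem_group D4Data.good r t⟩ = (natX K r t).1 := by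
    intro r hr t
    have e : θ (D4Data.tab.D.stGen K r t) = ⟨Tab.xg D4Data.good r t, Tab.xg_mem_group D4Data.good r t⟩ :=
      Subtype.ext (Units.ext (Tab.θG_stGen _ r t))
    show ((θ.liftOfSurjective _ ⟨ρ, hker⟩) _).1 = _
    rw [← e, MonoidHom.liftOfRightInverse_comp_apply]
    exact congrArg Subtype.val (hρ r (by exact hr) t)
  refine ⟨φ, ?_, hφ⟩
  haveI := (Tab.group_simple gS (F := K) (Or.inl (by decide +kernel))).1
  rcases (inferInstance : φ.ker.Normal).eq_bot_or_eq_top with h | h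
  · exact (MonoidHom.ker_eq_bot_iff φ).1 h
  · have h18 := hφ 18 (by norm_num) 1
    rw [MonoidHom.mem_ker.1 (by rw [h]; exact Subgroup.mem_top _)] at h18
    exact absurd (Subtype.ext h18.symm) (Tab.natEl_ne_one hq (by decide +kernel) (by decide +kernel))

end Cfsg.Agent.D4Iso
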