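import Cfsg.Agent.Lib.D4Iso.Lin

/-!
# The 2-elements: a flag lowered by the positive root elements
-/

set_option autoImplicit false
set_option maxRecDepth 8000

namespace Cfsg.Agent.D4Iso

open Cfsg.Lie
open Cfsg.Agent.Chev

/-- `j` lies in the `i`-th term of the flag. -/
def inC (i j : ℕ) : Bool :=
  Nat.blt ([0, 7, 1, 6, 2, 5, 3, 4].getD j 8) ([8, 7, 6, 5, 3, 2, 1, 0].getD i 0)

/-- The positive roots. -/
def posR (r : ℕ) : Bool := ((chevD4.coroot.getD r #[]).toList).all fun c => decide (0 ≤ c)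

theorem flag_drop : ∀ r : Fin 24, posR r.1 = true → ∀ i : Fin 7, ∀ j : Fin 8,
    ((inC i.1 j.1 = true → (j.1 = D4Data.nat.u r.1 ^^^ 1 → inC (i.1 + 1) (D4Data.nat.w r.1) = true) ∧
      (j.1 = D4Data.nat.w r.1 ^^^ 1 → inC (i.1 + 1) (D4Data.nat.u r.1) = true)) ∧
      (inC (i.1 + 1) j.1 = true → inC i.1 j.1 = true)) := by decide +kernel

theorem inC_ends : (∀ j : Fin 8, inC 7 j.1 = false) ∧ ∀ j : Fin 8, inC 0 j.1 = true := by decide +kernel

variable {K : Type*} [Field K]

/-- The flag. -/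
def flag (i : ℕ) : Submodule K (V8 K) where
  carrier := {x | ∀ j < 8, inC i j = false → x (pos j) = 0}
  add_mem' ha hb j hj h := by simp [Pi.add_apply, ha j hj h, hb j hj h]
  zero_mem' _ _ _ := rfl
  smul_mem' c x hx j hj h := by simp [Pi.smul_apply, hx j hj h]

theorem fr_mem_flag {i a : ℕ} (ha : a < 8) (h : inC i a = true) : fr K a ∈ (flag i : Submodule K (V8 K)) := by
  intro j hj hf
  rw [fr_pos a ha j hj, if_neg]
  rintro rfl
  rw [h] at hf
  exact Bool.noConfusion hf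

theorem flag_succ_le {i : ℕ} (hi : i < 7) : (flag (i + 1) : Submodule K (V8 K)) ≤ flag i := by
  intro x hx j hj h
  have hr : ∀ i : Fin 7, ∀ j : Fin 8, inC i.1 j.1 = false → inC (i.1 + 1) j.1 = false := by decide +kernel
  exact hx j hj (hr ⟨i, hi⟩ ⟨j, hj⟩ h)

theorem natX_flag [CharP K 2] {r : ℕ} (hr : r < 24) (hp : posR r = true) (t : K) {i : ℕ} (hi : i < 7) {x : V8 K}
    (hx : x ∈ (flag i : Submodule K (V8 K))) : (natX K r t).1 x - x ∈ (flag (i + 1) : Submodule K (V8 K)) := by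
  obtain ⟨hu, hw, hpu, hpw, -⟩ := root_shape r hr
  rw [natX_eval hr, add_assoc, add_sub_cancel_left]
  refine add_mem ?_ ?_
  · cases hc : inC i (D4Data.nat.u r ^^^ 1) with
    | false => rw [hx _ hpu hc, zero_mul, zero_smul]; exact zero_mem _
    | true => exact Submodule.smul_mem _ _ (fr_mem_flag hw
        (((flag_drop ⟨r, hr⟩ hp ⟨i, hi⟩ ⟨_, hpu⟩).1 hc).1 rfl))
  · cases hc : inC i (D4Data.nat.w r ^^^ 1) with
    | false => rw [hx _ hpw hc, zero_mul, zero_smul]; exact zero_mem _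
    | true => exact Submodule.smul_mem _ _ (fr_mem_flag hu
        (((flag_drop ⟨r, hr⟩ hp ⟨i, hi⟩ ⟨_, hpw⟩).1 hc).2 rfl))

variable [Fintype K] (F : F8 K)

/-- Lowering the flag. -/
def Lowers (g : V8 K ≃ₗ[K] V8 K) : Prop :=
  ∀ i < 7, ∀ x ∈ (flag i : Submodule K (V8 K)), g x - x ∈ (flag (i + 1) : Submodule K (V8 K))

theorem lowers_mul {g h : V8 K ≃ₗ[K] V8 K} (hg : Lowers g) (hh : Lowers h) : Lowers (g * h) := by
  intro i hi x hx
  have h1 := hh i hi x hx
  have hhx : h x ∈ (flag i : Submodule K (V8 K)) := by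
    have := add_mem (flag_succ_le hi h1) hx
    rwa [sub_add_cancel] at this
  have := add_mem (hg i hi _ hhx) h1
  rw [sub_add_sub_cancel] at this
  exact this

theorem lowers_inv {g : V8 K ≃ₗ[K] V8 K} (hg : Lowers g) : Lowers g⁻¹ := by
  intro i hi y hy
  have hmap : ∀ x ∈ (flag i : Submodule K (V8 K)), g x ∈ (flag i : Submodule K (V8 K)) := fun x hx => by
    have := add_mem (flag_succ_le hi (hg i hi x hx)) hx
    rwa [sub_add_cancel] at this
  let f : ↥(flag i : Submodule K (V8 K)) → ↥(flag i : Submodule K (V8 K)) := fun x => ⟨g x.1, hmap x.1 x.2⟩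
  have hinj : Function.Injective f := fun a b e => Subtype.ext (g.injective (congrArg Subtype.val e))
  obtain ⟨⟨x, hx⟩, he⟩ := (Finite.injective_iff_surjective.1 hinj) ⟨y, hy⟩
  have he' : g x = y := congrArg Subtype.val he
  have hgx : g⁻¹ y = x := by rw [← he']; exact g.symm_apply_apply x
  rw [hgx, ← he', ← neg_sub]
  exact neg_mem (hg i hi x hx)

theorem lowers_pow_seven {g : ↥(Tw K)} (hg : Lowers (Ψ F g)) : (lin F g - 1) ^ 7 = 0 := by
  refine LinearMap.ext fun v => ?_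
  have key : ∀ i ≤ 7, ((lin F g - 1) ^ i) v ∈ (flag i : Submodule K (V8 K)) := by
    intro i
    induction i with
    | zero => exact fun _ j hj h => absurd h (by rw [inC_ends.2 ⟨j, hj⟩]; exact Bool.noConfusion)
    | succ i ih =>
      intro hi
      rw [pow_succ', Module.End.mul_apply]
      exact hg i (by omega) _ (ih (by omega))
  have h7 := key 7 le_rfl
  funext s
  obtain ⟨j, hj, rfl⟩ := pos_surj s
  exact h7 j hj (inC_ends.1 ⟨j, hj⟩)

theorem phi_lowers : ∀ x ∈ D4Data.tab.D.posUnipotent K, ∀ hx : x ∈ D4Data.tab.D.group K,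
    Lowers (phi F ⟨x, hx⟩) := by
  haveI := F.charTwo
  have hle : D4Data.tab.D.posUnipotent K ≤ D4Data.tab.D.group K := by
    show Subgroup.closure _ ≤ _
    rw [Subgroup.closure_le]
    rintro x ⟨r, t, -, hx⟩
    rw [Tab.eq_xg D4Data.good hx]
    exact Tab.xg_mem_group _ _ _
  intro x hx
  induction hx using Subgroup.closure_induction with
  | mem y hy =>
    intro hy'
    obtain ⟨r, t, ⟨hr, hpos⟩, hy⟩ := hy
    have hr' : r < 24 := hr
    have e : (⟨y, hy'⟩ : ↥(D4Data.tab.D.group K)) = ⟨Tab.xg D4Data.good r t, Tab.xg_mem_group D4Data.good r t⟩ :=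
      Subtype.ext (Tab.eq_xg D4Data.good hy)
    have hp : posR r = true := by
      simp only [posR, List.all_eq_true, decide_eq_true_iff]
      exact hpos
    rw [e, show phi F ⟨_, _⟩ = (natX K r t).1 from (exists_phi F.chr).choose_spec.2 r hr' t]
    exact fun i hi x hx => natX_flag hr' hp t hi hx
  | one =>
    intro h1
    rw [show (⟨1, h1⟩ : ↥(D4Data.tab.D.group K)) = 1 from rfl, map_one]
    intro i _ x _
    simp
  | mul a b ha hb iha ihb =>
    intro hab
    rw [show (⟨a * b, hab⟩ : ↥(D4Data.tab.D.group K)) = ⟨a, hle ha⟩ * ⟨b, hle hb⟩ from rfl, map_mul]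
    exact lowers_mul (iha _) (ihb _)
  | inv a ha iha =>
    intro h'
    rw [show (⟨a⁻¹, h'⟩ : ↥(D4Data.tab.D.group K)) = ⟨a, hle ha⟩⁻¹ from rfl, map_inv]
    exact lowers_inv (iha _)

/-- A 2-element minus one has vanishing seventh power. -/
theorem two_elt {g : ↥(Tw K)} (hg : ∃ a, orderOf g = 2 ^ a) : (lin F g - 1) ^ 7 = 0 := by
  classical
  haveI : Fact (Nat.Prime 2) := ⟨Nat.prime_two⟩
  haveI : Finite ↥(Tw K) := Nat.finite_of_card_ne_zero (by rw [card_Tw F]; norm_num)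
  let H : Subgroup ↥(Tw K) := (D4Data.tab.D.posUnipotent K ⊓ Tw K).subgroupOf (Tw K)
  have hH : Nat.card ↥H = 2 ^ 12 := by
    rw [Nat.card_congr (Subgroup.subgroupOfEquivOfLe (inf_le_right (a := D4Data.tab.D.posUnipotent K))).toEquiv]
    exact TwD4.card_pos Nat.prime_two.isPrimePow (by rw [F.card]; norm_num)
  have hfac : (Nat.card ↥(Tw K)).factorization 2 = 12 := by
    rw [card_Tw F]
    refine le_antisymm ?_ ((Nat.prime_two.pow_dvd_iff_le_factorization (by norm_num)).1 (by norm_num))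
    by_contra hlt
    have := (Nat.prime_two.pow_dvd_iff_le_factorization (k := 13) (by norm_num)).2 (by omega : 13 ≤ (211341312 : ℕ).factorization 2)
    norm_num at this
  let P0 : Sylow 2 ↥(Tw K) := Sylow.ofCard H (by rw [hfac, hH])
  obtain ⟨a, ha⟩ := hg
  obtain ⟨Q, hQ⟩ := (IsPGroup.of_card (p := 2) (G := ↥(Subgroup.zpowers g)) (by rw [Nat.card_zpowers, ha])).exists_le_sylow
  obtain ⟨c, hc⟩ := MulAction.exists_smul_eq ↥(Tw K) Q P0
  have hmem : c * g * c⁻¹ ∈ (P0 : Subgroup ↥(Tw K)) := by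
    rw [← hc, Sylow.coe_subgroup_smul]
    exact Subgroup.smul_mem_pointwise_smul _ (MulAut.conj c) _ (hQ (Subgroup.mem_zpowers g))
  have hl : Lowers (Ψ F (c * g * c⁻¹)) := phi_lowers F _ (Subgroup.mem_inf.1 hmem).1 _
  have h7 := lowers_pow_seven F hl
  have e : lin F (c * g * c⁻¹) - 1 = lin F c * (lin F g - 1) * lin F c⁻¹ := by
    rw [map_mul, map_mul, mul_sub, sub_mul, mul_one, ← map_mul (lin F) c c⁻¹, mul_inv_cancel, map_one]
  have hu : ∀ k, (lin F c * (lin F g - 1) * lin F c⁻¹) ^ k = lin F c * (lin F g - 1) ^ k * lin F c⁻¹ := by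
    intro k
    induction k with
    | zero => rw [pow_zero, pow_zero, mul_one, ← map_mul, mul_inv_cancel, map_one]
    | succ k ih =>
      rw [pow_succ, ih, pow_succ]
      have : lin F c⁻¹ * lin F c = 1 := by rw [← map_mul, inv_mul_cancel, map_one]
      simp only [mul_assoc]
      rw [← mul_assoc (lin F c⁻¹), this, one_mul]
  rw [e, hu] at h7
  have h1 : lin F c⁻¹ * lin F c = 1 := by rw [← map_mul, inv_mul_cancel, map_one]
  calc (lin F g - 1) ^ 7 = (lin F c⁻¹ * lin F c) * (lin F g - 1) ^ 7 * (lin F c⁻¹ * lin F c) := by rw [h1, one_mul, mul_one]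
    _ = lin F c⁻¹ * (lin F c * (lin F g - 1) ^ 7 * lin F c⁻¹) * lin F c := by simp only [mul_assoc]
    _ = 0 := by rw [h7, mul_zero, zero_mul]

end Cfsg.Agent.D4Iso
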